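import Cfsg.Agent.Lib.PairSolv.Sections
import Cfsg.Agent.Lib.Transfer.Constrained
import Cfsg.Agent.Lib.Blocks.InvariantCover
import Cfsg.Agent.Lib.CT.Kernel

/-!
# Counting products of two elements of order `p` generating `p`-solvable subgroups
-/

set_option autoImplicit false
set_option linter.all false

namespace Cfsg.Agent.PairSolv

open Cfsg Cfsg.Agent Cfsg.Agent.Blocks
open scoped ComplexConjugate

universe u

variable {G : Type u} [Group G] [Fintype G] {p : ℕ} [hp : Fact p.Prime] {M : Ideal AlgInt}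
  [M.IsPrime]

/-- The elements of order `p`. -/
noncomputable def Om (p : ℕ) (G : Type u) [Group G] [Fintype G] : Finset G := by
  classical exact Finset.univ.filter (fun g : G => g ^ p = 1 ∧ g ≠ 1)

omit hp in
theorem mem_Om {g : G} : g ∈ Om p G ↔ g ^ p = 1 ∧ g ≠ 1 := by simp [Om]

theorem orderOf_of_mem_Om {g : G} (h : g ∈ Om p G) : orderOf g = p :=
  orderOf_eq_prime (mem_Om.1 h).1 (mem_Om.1 h).2

theorem mem_Om_iff_orderOf {g : G} : g ∈ Om p G ↔ orderOf g = p := by
  refine ⟨orderOf_of_mem_Om, fun h => mem_Om.2 ⟨by rw [← h]; exact pow_orderOf_eq_one g, ?_⟩⟩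
  rintro rfl
  rw [orderOf_one] at h
  exact hp.out.ne_one h.symm

omit hp in
theorem conj_mem_Om {g : G} (h : g ∈ Om p G) (a : G) : a * g * a⁻¹ ∈ Om p G := by
  rw [mem_Om] at h ⊢
  refine ⟨by rw [conj_pow, h.1]; group, fun e => h.2 ?_⟩
  calc g = a⁻¹ * (a * g * a⁻¹) * a := by group
    _ = 1 := by rw [e]; group

omit hp in
/-- Two elements of exponent `p` generating a `p`-solvable group with abelian Sylow subgroup
generate an extension of a `p'`-group by an elementary abelian group. -/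
theorem pair_core [hp : Fact p.Prime] (P : Sylow p G)
    (hab : ∀ x ∈ (P : Subgroup G), ∀ y ∈ (P : Subgroup G), x * y = y * x) {u v : G} (hu : u ^ p = 1)
    (hv : v ^ p = 1) (hs : IsPSolvable p ↥(Subgroup.closure ({u, v} : Set G))) :
    ∃ O : Subgroup G, ¬ p ∣ Nat.card O ∧
      ∀ h ∈ Subgroup.closure ({u, v} : Set G), h ^ p ∈ O := by
  classical
  set H := Subgroup.closure ({u, v} : Set G) with hH
  set O := pPrimeCore p H with hOdef
  haveI : O.Normal := Basics.pPrimeCore_normal p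
  refine ⟨O.map H.subtype, ?_, ?_⟩
  · rw [Subgroup.card_map_of_injective H.subtype_injective]
    exact Basics.not_dvd_card_pPrimeCore p
  have hX : IsPSolvable p (H ⧸ O) :=
    Coprime23.isPSolvable_map (QuotientGroup.mk' O) (QuotientGroup.mk'_surjective O) hs
  have hcore : pPrimeCore p (H ⧸ O) = ⊥ := Basics.pPrimeCore_quotient_eq_bot p
  set Q := pCore p (H ⧸ O) with hQdef
  have hCQ : Subgroup.centralizer (Q : Set (H ⧸ O)) ≤ Q :=
    Transfer.centralizer_pCore_le_of_pSolvable hcore (Blocks.isPSolvable_subgroup hX _)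
  have habH : ∀ (S : Sylow p H), ∀ x ∈ (S : Subgroup H), ∀ y ∈ (S : Subgroup H), x * y = y * x := by
    intro S x hx y hy
    obtain ⟨P', hP'⟩ := (S.isPGroup'.map H.subtype).exists_le_sylow
    obtain ⟨g, hg⟩ := MulAction.exists_smul_eq G P P'
    have h1 : ∀ z ∈ (S : Subgroup H), g⁻¹ * (z : G) * g ∈ (P : Subgroup G) := by
      intro z hz
      have h2 : (z : G) ∈ (P' : Subgroup G) := hP' ⟨z, hz, rfl⟩
      rw [← hg, Sylow.coe_subgroup_smul] at h2
      have h3 := Subgroup.mem_pointwise_smul_iff_inv_smul_mem.1 h2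
      rwa [← map_inv, MulAut.smul_def, MulAut.conj_apply, inv_inv] at h3
    have h2 := hab _ (h1 x hx) _ (h1 y hy)
    refine Subtype.ext ?_
    show (x : G) * y = y * x
    calc (x : G) * y = g * ((g⁻¹ * x * g) * (g⁻¹ * y * g)) * g⁻¹ := by group
      _ = g * ((g⁻¹ * y * g) * (g⁻¹ * x * g)) * g⁻¹ := by rw [h2]
      _ = _ := by group
  -- the core is the only Sylow subgroup
  have hmem : ∀ x : H ⧸ O, x ^ p = 1 → x ∈ Q := by
    intro x hx
    have hxp : IsPGroup p (Subgroup.zpowers x) := by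
      rintro ⟨y, hy⟩
      obtain ⟨i, rfl⟩ := Subgroup.mem_zpowers_iff.mp hy
      exact ⟨1, Subtype.ext (by
        show (x ^ i) ^ p ^ 1 = 1
        rw [pow_one, ← zpow_natCast, ← zpow_mul, mul_comm, zpow_mul, zpow_natCast, hx, one_zpow])⟩
    obtain ⟨T, hT⟩ := hxp.exists_le_sylow
    obtain ⟨S, hS⟩ := Sylow.mapSurjective_surjective (p := p) (QuotientGroup.mk'_surjective O) T
    refine hCQ (Subgroup.mem_centralizer_iff.2 fun z hz => ?_)
    have hxT : x ∈ (T : Subgroup (H ⧸ O)) := hT (Subgroup.mem_zpowers x)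
    have hzT : z ∈ (T : Subgroup (H ⧸ O)) := Basics.pCore_le_sylow p T hz
    rw [← hS, Sylow.coe_mapSurjective] at hxT hzT
    obtain ⟨a, ha, rfl⟩ := hxT
    obtain ⟨b, hb, rfl⟩ := hzT
    rw [← map_mul, ← map_mul, habH S b hb a ha]
  have hQp : IsPGroup p Q := Basics.pCore_isPGroup p
  have hQab : ∀ x ∈ Q, ∀ y ∈ Q, x * y = y * x := by
    intro x hx y hy
    obtain ⟨T, hT⟩ := hQp.exists_le_sylow
    obtain ⟨S, hS⟩ := Sylow.mapSurjective_surjective (p := p) (QuotientGroup.mk'_surjective O) T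
    have hx' := hT hx
    have hy' := hT hy
    rw [← hS, Sylow.coe_mapSurjective] at hx' hy'
    obtain ⟨a, ha, rfl⟩ := hx'
    obtain ⟨b, hb, rfl⟩ := hy'
    rw [← map_mul, ← map_mul, habH S a ha b hb]
  intro h hh
  have key : ∀ (g : G) (hg : g ∈ H), (QuotientGroup.mk' O ⟨g, hg⟩) ∈ Q ∧
      (QuotientGroup.mk' O ⟨g, hg⟩) ^ p = 1 := by
    intro g hg
    induction hg using Subgroup.closure_induction with
    | mem x hx =>
      have hxp : x ^ p = 1 := by
        rcases hx with rfl | hx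
        · exact hu
        · rw [Set.mem_singleton_iff.mp hx]; exact hv
      have h1 : (QuotientGroup.mk' O ⟨x, Subgroup.subset_closure hx⟩) ^ p = 1 := by
        rw [← map_pow, show (⟨x, Subgroup.subset_closure hx⟩ : H) ^ p = 1 from Subtype.ext hxp,
          map_one]
      exact ⟨hmem _ h1, h1⟩
    | one =>
      have e : (⟨1, Subgroup.one_mem H⟩ : H) = 1 := rfl
      rw [e, map_one]
      exact ⟨one_mem _, one_pow _⟩
    | mul x y hx hy ihx ihy =>
      have e : (⟨x * y, Subgroup.mul_mem H hx hy⟩ : H) = ⟨x, hx⟩ * ⟨y, hy⟩ := rfl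
      rw [e, map_mul]
      refine ⟨mul_mem ihx.1 ihy.1, ?_⟩
      rw [(show Commute _ _ from hQab _ ihx.1 _ ihy.1).mul_pow, ihx.2, ihy.2, one_mul]
    | inv x hx ih =>
      have e : (⟨x⁻¹, Subgroup.inv_mem H hx⟩ : H) = (⟨x, hx⟩ : H)⁻¹ := rfl
      rw [e, map_inv]
      exact ⟨inv_mem ih.1, by rw [inv_pow, ih.2, inv_one]⟩
  obtain ⟨-, h2⟩ := key h hh
  rw [← map_pow, QuotientGroup.mk'_apply, QuotientGroup.eq_one_iff] at h2
  exact ⟨_, h2, rfl⟩

/-- Elements whose `p`-th power lies in a `p'`-subgroup have `p`-part of exponent `p`. -/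
theorem ppart_pow {O : Subgroup G} (hO : ¬ p ∣ Nat.card O) {z x : G} (hz : z ^ p ∈ O)
    (hx : IsPPart p z x) : x ^ p = 1 := by
  obtain ⟨i, hi⟩ := Subgroup.mem_zpowers_iff.mp (ppart_mem_zpowers hx)
  have h1 : x ^ p ∈ O := by
    rw [← hi, ← zpow_natCast, ← zpow_mul, mul_comm, zpow_mul, zpow_natCast]
    exact zpow_mem hz i
  obtain ⟨k, hk⟩ := ppart_pow_eq_one hx
  have h2 : orderOf (x ^ p) ∣ p ^ k := orderOf_dvd_of_pow_eq_one (by
    rw [← pow_mul, mul_comm, pow_mul, hk, one_pow])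
  have h3 : orderOf (x ^ p) ∣ Nat.card O := Subgroup.orderOf_dvd_natCard O h1
  have h4 := Nat.dvd_gcd h2 h3
  rw [(Nat.Coprime.pow_left k (hp.out.coprime_iff_not_dvd.mpr hO)).gcd_eq_one, Nat.dvd_one] at h4
  exact orderOf_eq_one_iff.mp h4

/-- The hypotheses of the counting argument. -/
structure Hyp (P : Sylow p G) (s : ℕ) : Prop where
  comm : ∀ x ∈ (P : Subgroup G), ∀ y ∈ (P : Subgroup G), x * y = y * x
  compl : ∀ u ∈ Om p G, ∃ k : ℕ, (pPrimeCore p (Subgroup.centralizer ({u} : Set G))).index = p ^ k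
  index : ∀ u ∈ Om p G, (Subgroup.centralizer ({u} : Set G)).index = s
  pair : ∀ u ∈ Om p G, ∀ v ∈ Om p G, IsPSolvable p ↥(Subgroup.closure ({u, v} : Set G))

/-- The average of a character over the elements of order `p`. -/
noncomputable def avg (p : ℕ) (χ : G → ℂ) : ℝ :=
  (∑ u ∈ Om p G, χ u).re / ((Om p G).card : ℝ)

theorem sum_Om_eq (hne : (Om p G).Nonempty) {χ : G → ℂ} (hχ : IsCharacter G χ) :
    ∑ u ∈ Om p G, χ u = (((Om p G).card : ℝ) * avg p χ : ℝ) := by
  have hc : conj (∑ u ∈ Om p G, χ u) = ∑ u ∈ Om p G, χ u := by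
    rw [map_sum]
    refine Finset.sum_nbij' (fun u => u⁻¹) (fun u => u⁻¹) ?_ ?_ ?_ ?_ ?_
    · intro a ha
      simp only [Finset.mem_coe, mem_Om] at ha ⊢
      exact ⟨by rw [inv_pow, ha.1, inv_one], inv_ne_one.2 ha.2⟩
    · intro a ha
      simp only [Finset.mem_coe, mem_Om] at ha ⊢
      exact ⟨by rw [inv_pow, ha.1, inv_one], inv_ne_one.2 ha.2⟩
    · intro a _; exact inv_inv a
    · intro a _; exact inv_inv a
    · intro a _; exact (CT.char_inv_eq_conj hχ a).symm
  have hre := Complex.conj_eq_iff_re.1 hc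
  rw [← hre]
  congr 1
  rw [avg, mul_div_cancel₀]
  exact Nat.cast_ne_zero.2 (Finset.card_ne_zero.2 hne)

theorem hq_of_mem (P : Sylow p G) (hab : ∀ x ∈ (P : Subgroup G), ∀ y ∈ (P : Subgroup G), x * y = y * x)
    {u : G} (hu : u ∈ Om p G) :
    p ^ (Nat.card (Subgroup.centralizer ({u} : Set G))).factorization p = Nat.card (P : Subgroup G) := by
  have hup : IsPGroup p (Subgroup.zpowers u) := by
    refine IsPGroup.of_card (n := 1) ?_
    rw [Nat.card_zpowers, orderOf_of_mem_Om hu, pow_one]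
  obtain ⟨P', hP'⟩ := hup.exists_le_sylow
  obtain ⟨g, hg⟩ := MulAction.exists_smul_eq G P P'
  have hle : (P' : Subgroup G) ≤ Subgroup.centralizer ({u} : Set G) := by
    intro z hz
    refine Subgroup.mem_centralizer_singleton_iff.mpr ?_
    have hu' : u ∈ (P' : Subgroup G) := hP' (Subgroup.mem_zpowers u)
    rw [← hg, Sylow.coe_subgroup_smul] at hz hu'
    have h1 := Subgroup.mem_pointwise_smul_iff_inv_smul_mem.1 hz
    have h2 := Subgroup.mem_pointwise_smul_iff_inv_smul_mem.1 hu'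
    rw [← map_inv, MulAut.smul_def, MulAut.conj_apply, inv_inv] at h1 h2
    have h3 := hab _ h1 _ h2
    calc z * u = g * ((g⁻¹ * z * g) * (g⁻¹ * u * g)) * g⁻¹ := by group
      _ = g * ((g⁻¹ * u * g) * (g⁻¹ * z * g)) * g⁻¹ := by rw [h3]
      _ = _ := by group
  have h1 : Nat.card ((P'.subtype hle : Sylow p _) : Subgroup (Subgroup.centralizer ({u} : Set G))) =
      Nat.card (P : Subgroup G) := by
    rw [Sylow.coe_subtype, Nat.card_congr (Subgroup.subgroupOfEquivOfLe hle).toEquiv,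
      P'.card_eq_multiplicity, P.card_eq_multiplicity]
  rw [← h1, (P'.subtype hle).card_eq_multiplicity]

/-- Orthogonality for the averages. -/
theorem sum_avg_sq (hM : IsPModular p M) {P : Sylow p G} {s : ℕ} (h : Hyp P s)
    (hne : (Om p G).Nonempty) :
    ∑ χ ∈ B0 M G, avg p (χ : G → ℂ) ^ 2 =
      (Nat.card (P : Subgroup G) : ℝ) * s / ((Om p G).card : ℝ) := by
  classical
  set N : ℝ := ((Om p G).card : ℝ) with hN
  have hN0 : N ≠ 0 := Nat.cast_ne_zero.2 (Finset.card_ne_zero.2 hne)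
  have hpow : ∀ u ∈ Om p G, ∃ k : ℕ, u ^ p ^ k = 1 := fun u hu =>
    ⟨1, by rw [pow_one]; exact (mem_Om.1 hu).1⟩
  have h1 : ∑ χ ∈ B0 M G, (((N * avg p (χ : G → ℂ)) ^ 2 : ℝ) : ℂ) =
      ((N * (s * (Nat.card (P : Subgroup G) : ℝ)) : ℝ) : ℂ) := by
    calc ∑ χ ∈ B0 M G, (((N * avg p (χ : G → ℂ)) ^ 2 : ℝ) : ℂ)
        = ∑ χ ∈ B0 M G, (∑ u ∈ Om p G, (χ : G → ℂ) u) * conj (∑ w ∈ Om p G, (χ : G → ℂ) w) := by
          refine Finset.sum_congr rfl fun χ _ => ?_
          rw [sum_Om_eq hne (CT.isCharacter_of_isIrr χ.2), Complex.conj_ofReal]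
          simp only [hN]; push_cast; ring
      _ = ∑ u ∈ Om p G, ∑ w ∈ Om p G, ∑ χ ∈ B0 M G,
            (χ : G → ℂ) u * conj ((χ : G → ℂ) w) := by
          simp only [map_sum, Finset.sum_mul_sum]
          rw [Finset.sum_comm]
          exact Finset.sum_congr rfl fun u _ => Finset.sum_comm
      _ = ∑ u ∈ Om p G, ∑ w ∈ Om p G,
            if IsConj u w then (Nat.card (P : Subgroup G) : ℂ) else 0 := by
          refine Finset.sum_congr rfl fun u hu => Finset.sum_congr rfl fun w hw => ?_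
          exact (section_facts hM (hpow u hu) (h.compl u hu) (hq_of_mem P h.comm hu)).2.2.2 w
            (hpow w hw) inferInstance
      _ = _ := by
          rw [Finset.sum_congr rfl fun u hu => ?_]
          · rw [Finset.sum_const, nsmul_eq_mul, hN]; push_cast; rfl
          · rw [← Finset.sum_filter, Finset.sum_const, nsmul_eq_mul]
            congr 2
            rw [← h.index u hu, ← CT.card_conj_class u, ← Nat.card_eq_finsetCard]
            refine Nat.card_congr
              { toFun := fun z => ⟨z.1, (Finset.mem_filter.1 z.2).2⟩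
                invFun := fun z => ⟨z.1, Finset.mem_filter.2 ⟨?_, z.2⟩⟩
                left_inv := fun z => rfl
                right_inv := fun z => rfl }
            obtain ⟨a, ha⟩ := isConj_iff.mp z.2
            rw [← ha]
            exact conj_mem_Om hu a
  rw [← Complex.ofReal_sum, Complex.ofReal_inj] at h1
  simp only [mul_pow] at h1
  rw [← Finset.mul_sum] at h1
  field_simp
  apply mul_left_cancel₀ hN0
  linear_combination h1

/-- The counting inequality. -/
theorem sum_avg_cube (hM : IsPModular p M) {P : Sylow p G} {s : ℕ} (h : Hyp P s)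
    (hne : (Om p G).Nonempty) :
    (1 - 1 / ((p : ℝ) - 1)) * ((Nat.card (P : Subgroup G) : ℝ) * s / ((Om p G).card : ℝ)) ≤
      ∑ χ ∈ B0 M G, avg p (χ : G → ℂ) ^ 3 / ((χ : G → ℂ) 1).re := by
  classical
  set N : ℕ := (Om p G).card with hN
  set q : ℕ := Nat.card (P : Subgroup G) with hqdef
  have hN0 : (N : ℝ) ≠ 0 := Nat.cast_ne_zero.2 (Finset.card_ne_zero.2 hne)
  have hq0 : (q : ℝ) ≠ 0 := Nat.cast_ne_zero.2 Nat.card_pos.ne'
  have hs0 : (s : ℝ) ≠ 0 := by
    obtain ⟨u, hu⟩ := hne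
    rw [← h.index u hu]
    exact Nat.cast_ne_zero.2 Subgroup.index_ne_zero_of_finite
  have hpow : ∀ u ∈ Om p G, ∃ k : ℕ, u ^ p ^ k = 1 := fun u hu =>
    ⟨1, by rw [pow_one]; exact (mem_Om.1 hu).1⟩
  have hp2 := hp.out.two_le
  -- cores of the pairs
  have hcore : ∀ u ∈ Om p G, ∀ v ∈ Om p G, ∃ O : Subgroup G, ¬ p ∣ Nat.card O ∧
      ∀ z ∈ Subgroup.closure ({u, v} : Set G), z ^ p ∈ O := fun u hu v hv =>
    pair_core P h.comm (mem_Om.1 hu).1 (mem_Om.1 hv).1 (h.pair u hu v hv)
  -- the number of regular products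
  let reg : G → ℕ := fun z => if p ∣ orderOf z then 0 else 1
  let sec : G → ℕ := fun z => if ∃ x ∈ Om p G, IsPPart p z x then 1 else 0
  set T : ℕ := ∑ u ∈ Om p G, ∑ v ∈ Om p G, reg (u * v) with hT
  have hsplit : T + ∑ u ∈ Om p G, ∑ v ∈ Om p G, sec (u * v) = N * N := by
    rw [hT, ← Finset.sum_add_distrib, hN, ← smul_eq_mul, ← Finset.sum_const]
    refine Finset.sum_congr rfl fun u hu => ?_
    rw [← Finset.sum_add_distrib, Finset.card_eq_sum_ones]
    refine Finset.sum_congr rfl fun v hv => ?_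
    obtain ⟨O, hO, hmem⟩ := hcore u hu v hv
    obtain ⟨x, hx, -⟩ := exists_isPPart (p := p) (u * v)
    have hxp := ppart_pow hO (hmem _ (mul_mem (Subgroup.subset_closure (by simp))
      (Subgroup.subset_closure (by simp)))) hx
    by_cases hx1 : x = 1
    · subst hx1
      have hr := isPPart_one_iff.1 hx
      have : ¬ ∃ y ∈ Om p G, IsPPart p (u * v) y := by
        rintro ⟨y, hy, hy'⟩
        exact (mem_Om.1 hy).2 (ppart_unique hy' hx)
      simp only [reg, sec, if_neg hr, if_neg this]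
    · have hd : p ∣ orderOf (u * v) := by
        by_contra hd
        exact hx1 (ppart_unique hx (isPPart_one hd))
      have : ∃ y ∈ Om p G, IsPPart p (u * v) y := ⟨x, mem_Om.2 ⟨hxp, hx1⟩, hx⟩
      simp only [reg, sec, if_pos hd, if_pos this]
  have hTle : (p - 1) * T ≤ N * N := by
    have hperm : ∀ i ∈ Finset.range (p - 1), ∑ u ∈ Om p G, ∑ v ∈ Om p G, reg (u ^ (i + 1) * v) = T := by
      intro i hi
      rw [Finset.mem_range] at hi
      have hcop : ¬ p ∣ i + 1 := fun hd => by
        have := Nat.le_of_dvd (Nat.succ_pos i) hd; omega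
      have hinj : Set.InjOn (fun u : G => u ^ (i + 1)) (Om p G) := by
        intro a ha b hb e

        obtain ⟨m, -, hm⟩ := Nat.exists_mul_mod_eq_one_of_coprime
          ((hp.out.coprime_iff_not_dvd.mpr hcop).symm) hp.out.one_lt
        replace hm : (i + 1) * m ≡ 1 [MOD p] := by
          rw [Nat.ModEq, Nat.one_mod_eq_one.2 hp.out.ne_one]; exact hm
        have hback : ∀ c ∈ (Om p G : Set G), (c ^ (i + 1)) ^ m = c := by
          intro c hc
          rw [← pow_mul]
          conv_rhs => rw [← pow_one c]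
          refine pow_eq_pow_iff_modEq.2 ?_
          rw [orderOf_of_mem_Om hc]; exact hm
        rw [← hback a ha, ← hback b hb]
        exact congrArg (· ^ m) e
      have himg : (Om p G).image (fun u : G => u ^ (i + 1)) = Om p G := by
        refine Finset.eq_of_subset_of_card_le ?_ (by rw [Finset.card_image_of_injOn hinj])
        intro z hz
        obtain ⟨a, ha, rfl⟩ := Finset.mem_image.1 hz
        refine mem_Om.2 ⟨by rw [← pow_mul, mul_comm, pow_mul, (mem_Om.1 ha).1, one_pow], fun e => hcop ?_⟩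
        rw [← orderOf_of_mem_Om ha]
        exact orderOf_dvd_of_pow_eq_one e
      rw [hT]
      conv_rhs => rw [← himg]
      rw [Finset.sum_image hinj, himg]
    calc (p - 1) * T = ∑ i ∈ Finset.range (p - 1), ∑ u ∈ Om p G, ∑ v ∈ Om p G, reg (u ^ (i + 1) * v) := by
          rw [Finset.sum_congr rfl hperm, Finset.sum_const, Finset.card_range, smul_eq_mul]
      _ = ∑ u ∈ Om p G, ∑ v ∈ Om p G, ∑ i ∈ Finset.range (p - 1), reg (u ^ (i + 1) * v) := by
          rw [Finset.sum_comm]
          exact Finset.sum_congr rfl fun u _ => Finset.sum_comm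
      _ ≤ ∑ u ∈ Om p G, ∑ v ∈ Om p G, 1 := by
          refine Finset.sum_le_sum fun u hu => Finset.sum_le_sum fun v hv => ?_
          simp only [reg]
          rw [Finset.sum_ite, Finset.sum_const_zero, zero_add, Finset.sum_const, smul_eq_mul, mul_one,
            Finset.card_le_one]
          intro i hi j hj
          simp only [Finset.mem_filter, Finset.mem_range] at hi hj
          obtain ⟨O, hO, hmem⟩ := hcore u hu v hv
          have hin : ∀ a : ℕ, ¬ p ∣ orderOf (u ^ (a + 1) * v) → u ^ (a + 1) * v ∈ O := by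
            intro a ha
            have h1 := hmem _ (mul_mem (pow_mem (Subgroup.subset_closure (by simp : u ∈ ({u, v} : Set G))) (a + 1))
              (Subgroup.subset_closure (by simp : v ∈ ({u, v} : Set G))))
            obtain ⟨m, hm⟩ := exists_pow_eq_self_of_coprime
              ((hp.out.coprime_iff_not_dvd.mpr ha) : p.Coprime (orderOf (u ^ (a + 1) * v)))
            rw [← hm]
            exact pow_mem h1 m
          have h2 := mul_mem (hin i hi.2) (inv_mem (hin j hj.2))
          rw [show u ^ (i + 1) * v * (u ^ (j + 1) * v)⁻¹ = u ^ ((i : ℤ) - j) by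
            rw [mul_inv_rev, mul_assoc, mul_inv_cancel_left, ← zpow_natCast, ← zpow_natCast,
              ← zpow_neg, ← zpow_add]
            push_cast; congr 1; ring] at h2
          have h3 : ((orderOf (u ^ ((i : ℤ) - j)))) ∣ p := orderOf_dvd_of_pow_eq_one (by
            rw [← zpow_natCast, ← zpow_mul, mul_comm, zpow_mul, zpow_natCast, (mem_Om.1 hu).1, one_zpow])
          have h4 := Nat.dvd_gcd h3 (Subgroup.orderOf_dvd_natCard O h2)
          rw [(hp.out.coprime_iff_not_dvd.mpr hO).gcd_eq_one, Nat.dvd_one, orderOf_eq_one_iff,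
            ← orderOf_dvd_iff_zpow_eq_one, orderOf_of_mem_Om hu] at h4
          obtain ⟨c, hc⟩ := h4
          have hpz : (0 : ℤ) < p := by exact_mod_cast hp.out.pos
          have hi' : (i : ℤ) < p := by omega
          have hj' : (j : ℤ) < p := by omega
          rcases lt_trichotomy c 0 with hc0 | rfl | hc0
          · have : (p : ℤ) * c ≤ (p : ℤ) * (-1) := mul_le_mul_of_nonneg_left (by omega) hpz.le
            omega
          · omega
          · have : (p : ℤ) * 1 ≤ (p : ℤ) * c := mul_le_mul_of_nonneg_left (by omega) hpz.le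
            omega
      _ = N * N := by simp [hN]
  -- the section count through characters
  let F : G → ℂ := fun z => (sec z : ℂ)
  have hFc : IsClassFunction G F := by
    intro x y
    have : (∃ a ∈ Om p G, IsPPart p (y * x * y⁻¹) a) ↔ ∃ a ∈ Om p G, IsPPart p x a := by
      constructor
      · rintro ⟨a, ha, hp'⟩
        refine ⟨y⁻¹ * a * y, by simpa using conj_mem_Om ha y⁻¹, ?_⟩
        have h2 := ppart_conj hp' y⁻¹
        simpa [mul_assoc] using h2
      · rintro ⟨a, ha, hp'⟩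
        exact ⟨_, conj_mem_Om ha y, ppart_conj hp' y⟩
    simp only [F, sec, this]
  have hinner : ∀ χ : IrrCharacter G, classInner F (χ : G → ℂ) =
      if χ ∈ principalBlock M G then
        (((N : ℝ) * avg p (χ : G → ℂ) / (q * s) : ℝ) : ℂ) else 0 := by
    intro χ
    have hsum : ∑ z : G, F z * conj ((χ : G → ℂ) z) =
        ∑ u ∈ Om p G, ∑ k ∈ regC p u, conj ((χ : G → ℂ) (u * k)) := by
      have hF : ∀ z, F z = ∑ u ∈ Om p G, if IsPPart p z u then (1 : ℂ) else 0 := by
        intro z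
        by_cases hz : ∃ x ∈ Om p G, IsPPart p z x
        · obtain ⟨x, hx, hx'⟩ := hz
          rw [Finset.sum_eq_single x (fun y _ hne => if_neg fun hy => hne (ppart_unique hy hx'))
            (fun hn => absurd hx hn), if_pos hx']
          simp only [F, sec, if_pos (⟨x, hx, hx'⟩ : ∃ x ∈ Om p G, IsPPart p z x), Nat.cast_one]
        · rw [Finset.sum_eq_zero fun y hy => if_neg fun hy' => hz ⟨y, hy, hy'⟩]
          simp only [F, sec, if_neg hz, Nat.cast_zero]
      simp only [hF, Finset.sum_mul]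
      rw [Finset.sum_comm]
      refine Finset.sum_congr rfl fun u hu => ?_
      simp only [ite_mul, one_mul, zero_mul, ← Finset.sum_filter]
      refine Finset.sum_nbij' (fun z => u⁻¹ * z) (fun k => u * k) ?_ ?_ ?_ ?_ ?_
      · intro z hz
        obtain ⟨y, hy, hcom, -, hy2⟩ := (Finset.mem_filter.1 (Finset.mem_coe.1 hz)).2
        subst hy
        simp only [Finset.mem_coe, inv_mul_cancel_left]
        exact mem_regC.2 ⟨hcom.symm, hy2⟩
      · intro k hk
        simp only [Finset.mem_coe, mem_regC] at hk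
        exact Finset.mem_filter.2 ⟨Finset.mem_univ _, isPPart_mk hk.1.symm (hpow u hu) hk.2⟩
      · intro z _; exact mul_inv_cancel_left u z
      · intro k _; exact inv_mul_cancel_left u k
      · intro z _; rw [mul_inv_cancel_left]
    rw [classInner, hsum]
    split_ifs with hB
    · have h3 : ∀ u ∈ Om p G, ∑ k ∈ regC p u, conj ((χ : G → ℂ) (u * k)) =
          (((Nat.card G : ℝ) / (q * s) : ℝ) : ℂ) * conj ((χ : G → ℂ) u) := by
        intro u hu
        have hf := section_facts hM (hpow u hu) (h.compl u hu) (hq_of_mem P h.comm hu)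
        rw [← map_sum, hf.2.1 χ hB, map_mul, map_natCast]
        congr 1
        rw [← (Subgroup.centralizer ({u} : Set G)).index_mul_card, h.index u hu, hf.1, ← hqdef]
        push_cast
        have hs' : (s : ℂ) ≠ 0 := Nat.cast_ne_zero.2 fun e => hs0 (by rw [e, Nat.cast_zero])
        have hq' : (q : ℂ) ≠ 0 := Nat.cast_ne_zero.2 Nat.card_pos.ne'
        field_simp
      rw [Finset.sum_congr rfl h3, ← Finset.mul_sum, ← map_sum,
        sum_Om_eq hne (CT.isCharacter_of_isIrr χ.2), Complex.conj_ofReal]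
      push_cast
      simp only [← hN]
      have hG : (Fintype.card G : ℂ) ≠ 0 := Nat.cast_ne_zero.2 Fintype.card_pos.ne'
      rw [Nat.card_eq_fintype_card]
      field_simp
    · rw [Finset.sum_eq_zero fun u hu => by
        rw [← map_sum, (section_facts hM (hpow u hu) (h.compl u hu) (hq_of_mem P h.comm hu)).2.2.1 χ hB,
          map_zero], mul_zero]
  have hprod : ∀ χ : IrrCharacter G, ∑ u ∈ Om p G, ∑ v ∈ Om p G, (χ : G → ℂ) (u * v) =
      (((N : ℝ) * avg p (χ : G → ℂ)) ^ 2 / ((χ : G → ℂ) 1).re : ℝ) := by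
    intro χ
    let f : G → ℤ := fun g => if g ∈ Om p G then 1 else 0
    have hf : ClassSum.IsClassWeight f := by
      intro g a
      refine if_congr ⟨fun e => ?_, fun e => conj_mem_Om e a⟩ rfl rfl
      simpa [mul_assoc] using conj_mem_Om e a⁻¹
    have hsumf : ∀ X : G → ℂ, ∑ g, (f g : ℂ) * X g = ∑ v ∈ Om p G, X v := by
      intro X
      rw [← Finset.sum_filter_add_sum_filter_not Finset.univ (· ∈ Om p G)]
      rw [Finset.sum_eq_zero (s := Finset.univ.filter (fun g => ¬ g ∈ Om p G))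
        fun g hg => by simp [f, (Finset.mem_filter.1 hg).2], add_zero]
      refine Finset.sum_congr (by ext; simp) fun g hg => ?_
      simp [f, hg]
    have key := fun u => ClassSum.char_mul_omega χ.2 hf u
    rw [Finset.sum_congr rfl fun u _ => ((key u).trans (hsumf fun v => (χ : G → ℂ) (u * v))).symm,
      ← Finset.sum_mul, ClassSum.omega, hsumf, sum_Om_eq hne (CT.isCharacter_of_isIrr χ.2)]
    have hd : (χ : G → ℂ) 1 = ((((χ : G → ℂ) 1).re : ℝ) : ℂ) := by
      rw [CT.deg_eq (CT.isCharacter_of_isIrr χ.2)]; simp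
    conv_lhs => rw [hd]
    push_cast
    ring
  have hS : ((∑ u ∈ Om p G, ∑ v ∈ Om p G, sec (u * v) : ℕ) : ℂ) =
      ((((N : ℝ) ^ 3 / (q * s)) * ∑ χ ∈ B0 M G, avg p (χ : G → ℂ) ^ 3 / ((χ : G → ℂ) 1).re : ℝ) : ℂ) := by
    calc ((∑ u ∈ Om p G, ∑ v ∈ Om p G, sec (u * v) : ℕ) : ℂ)
        = ∑ u ∈ Om p G, ∑ v ∈ Om p G, ∑ χ : IrrCharacter G,
            classInner F (χ : G → ℂ) * (χ : G → ℂ) (u * v) := by
          push_cast
          refine Finset.sum_congr rfl fun u _ => Finset.sum_congr rfl fun v _ => ?_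
          have hd := congrFun (CT.classFunction_eq_sum hFc) (u * v)
          simpa [F] using hd
      _ = ∑ χ : IrrCharacter G, classInner F (χ : G → ℂ) *
            ∑ u ∈ Om p G, ∑ v ∈ Om p G, (χ : G → ℂ) (u * v) := by
          simp only [Finset.mul_sum]
          rw [Finset.sum_comm]
          refine Eq.trans (Finset.sum_congr rfl fun u _ => Finset.sum_comm) ?_
          rw [Finset.sum_comm]
          exact Finset.sum_congr rfl fun _ _ => Finset.sum_comm
      _ = _ := by
          rw [Finset.mul_sum, Complex.ofReal_sum, B0, Finset.sum_filter]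
          refine Finset.sum_congr rfl fun χ _ => ?_
          rw [hinner, hprod]
          split_ifs
          · push_cast; ring
          · rw [zero_mul]
  rw [← Complex.ofReal_natCast, Complex.ofReal_inj] at hS
  set S3 : ℝ := ∑ χ ∈ B0 M G, avg p (χ : G → ℂ) ^ 3 / ((χ : G → ℂ) 1).re
  have h1 : ((p : ℝ) - 1) * (T : ℝ) ≤ (N : ℝ) * N := by
    have : (((p - 1) * T : ℕ) : ℝ) ≤ ((N * N : ℕ) : ℝ) := by exact_mod_cast hTle
    push_cast [Nat.cast_sub hp.out.one_le] at this
    linarith
  have h2 : (T : ℝ) + (N : ℝ) ^ 3 / (q * s) * S3 = (N : ℝ) * N := by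
    rw [← hS]; exact_mod_cast hsplit
  have hp1 : (0 : ℝ) < (p : ℝ) - 1 := by
    have : (2 : ℝ) ≤ p := by exact_mod_cast hp2
    linarith
  have hNpos : (0 : ℝ) < N := Nat.cast_pos.2 (Finset.card_pos.2 hne)
  have h3 : (T : ℝ) ≤ (N : ℝ) * N / ((p : ℝ) - 1) := by
    rw [le_div_iff₀ hp1]; linarith
  have h4 : (1 - 1 / ((p : ℝ) - 1)) * ((N : ℝ) * N) ≤ (N : ℝ) ^ 3 / (q * s) * S3 := by
    have : (1 - 1 / ((p : ℝ) - 1)) * ((N : ℝ) * N) = (N : ℝ) * N - (N : ℝ) * N / ((p : ℝ) - 1) := by
      ring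
    linarith
  have hqs : (0 : ℝ) < (q : ℝ) * s :=
    mul_pos (Nat.cast_pos.2 Nat.card_pos) (lt_of_le_of_ne (Nat.cast_nonneg s) (Ne.symm hs0))
  rw [show (N : ℝ) ^ 3 / (q * s) * S3 = ((N : ℝ) * N) * (S3 * ((N : ℝ) / (q * s))) by ring,
    mul_comm (1 - _) _] at h4
  have h5 := le_of_mul_le_mul_left h4 (mul_pos hNpos hNpos)
  rw [← div_le_iff₀ (div_pos hNpos hqs)] at h5
  refine le_trans (le_of_eq ?_) h5
  field_simp

end Cfsg.Agent.PairSolv
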