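import Cfsg.Agent.Lib.PairSolv.CyclicMult

/-!
# No simple group with cyclic Sylow subgroup has all pairs `p`-solvable
-/

set_option autoImplicit false
set_option linter.all false

namespace Cfsg.Agent.PairSolv

open Cfsg Cfsg.Agent Cfsg.Agent.Blocks
open scoped ComplexConjugate

universe u

variable {G : Type u} [Group G] [Fintype G] {p : ℕ} [hp : Fact p.Prime] {M : Ideal AlgInt}
  [M.IsPrime]
variable {P : Sylow p G} {g : G} {q r : ℕ} [NeZero q]

/-- Not in the same orbit of the automizer. -/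
def Ineq (g : G) (q : ℕ) [NeZero q] (a b : ZMod q) : Prop :=
  ∀ h ∈ aut g q, h * a ≠ b ∧ h * b ≠ a

theorem Cyc.ineq_of_mult (C : Cyc P g q r) {χ : IrrCharacter G} {a b : ZMod q}
    (h : C.mult χ a ≠ C.mult χ b) : Ineq g q a b := fun k hk =>
  ⟨fun e => h (by rw [← e, C.mult_aut χ hk]), fun e => h (by rw [← e, C.mult_aut χ hk])⟩

theorem Cyc.sum_two (C : Cyc P g q r) (hM : IsPModular p M) {a b : ZMod q} (ha : a ≠ 0)
    (hb : b ≠ 0) (hab : Ineq g q a b) :
    ∑ χ ∈ (B0 M G).erase (CT.trivIrr G), ((C.mult χ a : ℝ) - C.mult χ b) ^ 2 = 2 := by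
  classical
  have h := C.sum_diff_sq hM a b
  rw [← Finset.add_sum_erase _ _ triv_mem_B0, C.mult_triv, C.mult_triv, if_neg ha, if_neg hb,
    Finset.sum_eq_single_of_mem (1 : ZMod q) C.one_mem] at h
  · simp only [one_mul, if_true] at h
    have h1 := hab 1 C.one_mem
    rw [one_mul, one_mul] at h1
    rw [if_neg h1.2, if_neg h1.1] at h
    push_cast at h
    linarith
  · intro k hk hne
    rw [if_neg (fun e => hne (C.free hk ha e)), if_neg (hab k hk).2, if_neg (hab k hk).1,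
      if_neg (fun e => hne (C.free hk hb e))]
    ring

theorem Cyc.sum_zero (C : Cyc P g q r) (hM : IsPModular p M) {a : ZMod q} (ha : a ≠ 0) :
    ∑ χ ∈ (B0 M G).erase (CT.trivIrr G), ((C.mult χ a : ℝ) - C.mult χ 0) ^ 2 =
      ((aut g q).card : ℝ) := by
  classical
  have h := C.sum_diff_sq hM a 0
  rw [← Finset.add_sum_erase _ _ triv_mem_B0, C.mult_triv, C.mult_triv, if_neg ha, if_pos rfl] at h
  have e : ∀ k ∈ aut g q, ((if k * a = a then (1 : ℝ) else 0) - (if k * 0 = a then 1 else 0) -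
      (if k * a = 0 then 1 else 0) + (if k * 0 = 0 then 1 else 0)) =
      (if k = 1 then 1 else 0) + 1 := by
    intro k hk
    obtain ⟨k', -, hk'⟩ := C.inv_mem hk
    rw [mul_zero, if_neg (Ne.symm ha), if_pos rfl,
      if_neg (fun e : k * a = 0 => ha (by
        calc a = k' * k * a := by rw [hk', one_mul]
          _ = k' * (k * a) := mul_assoc _ _ _
          _ = 0 := by rw [e, mul_zero]))]
    by_cases h1 : k = 1
    · rw [if_pos h1, h1, one_mul, if_pos rfl]; ring
    · rw [if_neg h1, if_neg (fun e => h1 (C.free hk ha e))]; ring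
  rw [Finset.sum_congr rfl e, Finset.sum_add_distrib, Finset.sum_ite_eq', if_pos C.one_mem,
    Finset.sum_const, nsmul_eq_mul, mul_one] at h
  push_cast at h
  linarith

/-- Two multiplicity one orbits and three multiplicity zero orbits cannot coexist. -/
theorem Cyc.no_star (C : Cyc P g q r) (hM : IsPModular p M) {χ₀ : IrrCharacter G}
    (hχ₀ : χ₀ ∈ (B0 M G).erase (CT.trivIrr G)) {i i' j₀ j j' : ZMod q}
    (hi0 : i ≠ 0) (hi'0 : i' ≠ 0) (hj₀0 : j₀ ≠ 0) (hj0 : j ≠ 0) (hj'0 : j' ≠ 0)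
    (hi : C.mult χ₀ i = 1) (hi' : C.mult χ₀ i' = 1) (hj₀ : C.mult χ₀ j₀ = 0)
    (hj : C.mult χ₀ j = 0) (hj' : C.mult χ₀ j' = 0) (hii : Ineq g q i i')
    (h0j : Ineq g q j₀ j) (h0j' : Ineq g q j₀ j') (hjj : Ineq g q j j') : False := by
  classical
  set B := (B0 M G).erase (CT.trivIrr G) with hB
  let D : ZMod q → IrrCharacter G → ℤ := fun a χ => (C.mult χ a : ℤ) - C.mult χ j₀
  have hsq : ∀ a, a ≠ 0 → Ineq g q a j₀ → ∑ χ ∈ B, D a χ ^ 2 = 2 := by
    intro a ha hia
    have h := C.sum_two hM ha hj₀0 hia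
    apply Int.cast_injective (α := ℝ)
    push_cast [D]
    exact h
  have hinner : ∀ a b, a ≠ 0 → b ≠ 0 → Ineq g q a j₀ → Ineq g q b j₀ → Ineq g q a b →
      ∑ χ ∈ B, D a χ * D b χ = 1 := by
    intro a b ha hb h1 h2 h3
    have h := C.sum_two hM ha hb h3
    have h' : ∑ χ ∈ B, (D a χ - D b χ) ^ 2 = 2 := by
      apply Int.cast_injective (α := ℝ)
      push_cast [D]
      rw [← h]
      exact Finset.sum_congr rfl fun χ _ => by ring
    simp only [sub_sq, Finset.sum_add_distrib, Finset.sum_sub_distrib, hsq a ha h1, hsq b hb h2,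
      mul_assoc, ← Finset.mul_sum] at h'
    omega
  have n1 : Ineq g q i j₀ := C.ineq_of_mult (by rw [hi, hj₀]; norm_num : C.mult χ₀ i ≠ C.mult χ₀ j₀)
  have n2 : Ineq g q i' j₀ :=
    C.ineq_of_mult (by rw [hi', hj₀]; norm_num : C.mult χ₀ i' ≠ C.mult χ₀ j₀)
  have n3 : Ineq g q j j₀ := fun k hk => ⟨(h0j k hk).2, (h0j k hk).1⟩
  have n4 : Ineq g q j' j₀ := fun k hk => ⟨(h0j' k hk).2, (h0j' k hk).1⟩
  have nij : ∀ a b, C.mult χ₀ a = 1 → C.mult χ₀ b = 0 → Ineq g q a b := fun a b ha hb =>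
    C.ineq_of_mult (by rw [ha, hb]; norm_num : C.mult χ₀ a ≠ C.mult χ₀ b)
  have hone : ∀ a, C.mult χ₀ a = 1 → a ≠ 0 → Ineq g q a j₀ → ∃ f ∈ B, f ≠ χ₀ ∧
      (D a f = 1 ∨ D a f = -1) ∧ ∀ χ ∈ B, χ ≠ χ₀ → χ ≠ f → D a χ = 0 := by
    intro a ha ha0 hia
    have h := hsq a ha0 hia
    have hD : D a χ₀ = 1 := by simp [D, ha, hj₀]
    rw [← Finset.add_sum_erase _ _ hχ₀, hD] at h
    have h1 : ∑ χ ∈ B.erase χ₀, D a χ ^ 2 = 1 := by linarith
    obtain ⟨f, hf, hfne⟩ : ∃ f ∈ B.erase χ₀, D a f ≠ 0 := by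
      by_contra hcon
      push Not at hcon
      rw [Finset.sum_eq_zero fun χ hχ => by rw [hcon χ hχ]; rfl] at h1
      exact absurd h1 (by norm_num)
    rw [← Finset.add_sum_erase _ _ hf] at h1
    have h2 : 0 ≤ ∑ χ ∈ (B.erase χ₀).erase f, D a χ ^ 2 := Finset.sum_nonneg fun _ _ => sq_nonneg _
    have h3 : 1 ≤ D a f ^ 2 := by
      have : 0 < D a f ^ 2 := by positivity
      omega
    have h4 : D a f ^ 2 = 1 := by omega
    have h5 : ∑ χ ∈ (B.erase χ₀).erase f, D a χ ^ 2 = 0 := by omega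
    refine ⟨f, (Finset.mem_erase.1 hf).2, (Finset.mem_erase.1 hf).1, sq_eq_one_iff.1 h4,
      fun χ hχ hne hne' => ?_⟩
    have h6 := (Finset.sum_eq_zero_iff_of_nonneg fun _ _ => sq_nonneg _).1 h5 χ
      (Finset.mem_erase.2 ⟨hne', Finset.mem_erase.2 ⟨hne, hχ⟩⟩)
    exact pow_eq_zero_iff (two_ne_zero) |>.1 h6
  obtain ⟨f, hfB, hf0, hfe, hfz⟩ := hone i hi hi0 n1
  obtain ⟨f', hf'B, hf'0, hf'e, hf'z⟩ := hone i' hi' hi'0 n2
  have hexp : ∀ (a : ZMod q) (F : IrrCharacter G → ℤ) (φ : IrrCharacter G), φ ∈ B → φ ≠ χ₀ →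
      C.mult χ₀ a = 1 → (∀ χ ∈ B, χ ≠ χ₀ → χ ≠ φ → D a χ = 0) →
      ∑ χ ∈ B, D a χ * F χ = F χ₀ + D a φ * F φ := by
    intro a F φ hφ hφ0 ha hz
    rw [← Finset.add_sum_erase _ _ hχ₀, ← Finset.add_sum_erase _ _ (Finset.mem_erase.2 ⟨hφ0, hφ⟩),
      Finset.sum_eq_zero fun χ hχ => by
        simp only [Finset.mem_erase] at hχ
        rw [hz χ hχ.2.2 hχ.2.1 hχ.1, zero_mul],
      show D a χ₀ = 1 by simp [D, ha, hj₀]]
    ring
  have hne : f ≠ f' := by
    intro e
    have h := hinner i i' hi0 hi'0 n1 n2 hii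
    rw [hexp i (D i') f hfB hf0 hi hfz, show D i' χ₀ = 1 by simp [D, hi', hj₀]] at h
    subst e
    rcases hfe with h1 | h1 <;> rcases hf'e with h2 | h2 <;> rw [h1, h2] at h <;> omega
  have hzero : ∀ b, C.mult χ₀ b = 0 → b ≠ 0 → Ineq g q b j₀ →
      ∀ χ ∈ B, D b χ = if χ = f then D i f else if χ = f' then D i' f' else 0 := by
    intro b hb hb0 hib
    have hb' : D b χ₀ = 0 := by simp [D, hb, hj₀]
    have h1 : D b f = D i f := by
      have h := hinner i b hi0 hb0 n1 hib (nij i b hi hb)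
      rw [hexp i (D b) f hfB hf0 hi hfz, hb', zero_add] at h
      rcases hfe with h1 | h1 <;> rw [h1] at h ⊢ <;> omega
    have h2 : D b f' = D i' f' := by
      have h := hinner i' b hi'0 hb0 n2 hib (nij i' b hi' hb)
      rw [hexp i' (D b) f' hf'B hf'0 hi' hf'z, hb', zero_add] at h
      rcases hf'e with h1 | h1 <;> rw [h1] at h ⊢ <;> omega
    have h := hsq b hb0 hib
    rw [← Finset.add_sum_erase _ _ hfB,
      ← Finset.add_sum_erase _ _ (Finset.mem_erase.2 ⟨hne.symm, hf'B⟩)] at h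
    have e1 : D b f ^ 2 = 1 := by rw [h1]; exact sq_eq_one_iff.2 hfe
    have e2 : D b f' ^ 2 = 1 := by rw [h2]; exact sq_eq_one_iff.2 hf'e
    have h5 : ∑ χ ∈ (B.erase f).erase f', D b χ ^ 2 = 0 := by linarith
    intro χ hχ
    split_ifs with c1 c2
    · rw [c1, h1]
    · rw [c2, h2]
    · exact pow_eq_zero_iff (two_ne_zero) |>.1
        ((Finset.sum_eq_zero_iff_of_nonneg fun _ _ => sq_nonneg _).1 h5 χ
          (Finset.mem_erase.2 ⟨c2, Finset.mem_erase.2 ⟨c1, hχ⟩⟩))
  have h := C.sum_two hM hj0 hj'0 hjj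
  rw [Finset.sum_eq_zero fun χ hχ => ?_] at h
  · norm_num at h
  · have e1 := hzero j hj hj0 n3 χ hχ
    rw [← hzero j' hj' hj'0 n4 χ hχ] at e1
    have e2 : ((C.mult χ j : ℤ)) = C.mult χ j' := sub_left_injective e1
    rw [show C.mult χ j = C.mult χ j' by exact_mod_cast e2, sub_self]
    norm_num

/-- The bound `5c ≤ 2d`. -/
theorem Cyc.degree_bound (C : Cyc P g q r) (hM : IsPModular p M) (hp3 : 3 ≤ p)
    (hw2 : 2 ≤ (aut g q).card) (hwp : (aut g q).card ≤ p - 1) (hr : r = 1 ∨ p ∣ r)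
    {χ : IrrCharacter G} (hχ : χ ∈ (B0 M G).erase (CT.trivIrr G)) {c d : ℝ}
    (hd : d = ∑ l : ZMod q, (C.mult χ l : ℝ))
    (hc : ((p : ℝ) - 1) * c =
      p * (∑ l ∈ Finset.univ.filter (fun l : ZMod q => l * (r : ZMod q) = 0), (C.mult χ l : ℝ)) - d)
    (hc2 : c ^ 2 ≤ (q : ℝ) - 1)
    (hfaith : ∃ l : ZMod q, l * (r : ZMod q) ≠ 0 ∧ C.mult χ l ≠ 0) :
    5 * c ≤ 2 * d := by
  classical
  set m := C.mult χ with hm
  set w := (aut g q).card with hw
  set L0 := Finset.univ.filter (fun l : ZMod q => l * (r : ZMod q) = 0) with hL0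
  set L1 := Finset.univ.filter (fun l : ZMod q => ¬ l * (r : ZMod q) = 0) with hL1
  obtain ⟨hL0e, hL0c⟩ := ker_mul_zmod q p r C.qeq
  have hcard0 : L0.card = r := by rw [hL0, hL0e, hL0c]
  have hcard1 : L1.card + r = q := by
    rw [← hcard0, hL0, hL1, add_comm, Finset.card_filter_add_card_filter_not, Finset.card_univ,
      ZMod.card]
  set D1 : ℝ := ∑ l ∈ L1, (m l : ℝ) with hD1
  set M0 : ℝ := ∑ l ∈ L0, (m l : ℝ) with hM0
  have hdsum : d = M0 + D1 := by
    rw [hd, hM0, hD1, hL0, hL1, Finset.sum_filter_add_sum_filter_not]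
  have hpR : (3 : ℝ) ≤ p := by exact_mod_cast hp3
  -- suffices
  suffices h : 3 * M0 * ((p : ℝ) - 1) ≤ 2 * D1 * ((p : ℝ) - 1) + 5 * D1 ∨ (c + q ≤ d) by
    rcases h with h | h
    · have h1 : ((p : ℝ) - 1) * (5 * c) ≤ ((p : ℝ) - 1) * (2 * d) := by
        rw [show ((p : ℝ) - 1) * (5 * c) = 5 * (((p : ℝ) - 1) * c) by ring, hc, hdsum]
        linarith
      exact le_of_mul_le_mul_left h1 (by linarith)
    · nlinarith [sq_nonneg (c - 1), sq_nonneg (3 * c - 2 * (q : ℝ)), sq_nonneg ((q : ℝ) - 2)]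
  by_cases hall : ∀ l ∈ L1, 1 ≤ m l
  · right
    have h1 : (L1.card : ℝ) ≤ D1 := by
      rw [hD1, Finset.card_eq_sum_ones, Nat.cast_sum]
      exact Finset.sum_le_sum fun l hl => by exact_mod_cast hall l hl
    have h2 : ((p : ℝ) - 1) * (d - c) = p * D1 := by rw [mul_sub, hc, hdsum]; ring
    have h3 : (L1.card : ℝ) + r = q := by exact_mod_cast hcard1
    have h4 : (q : ℝ) = p * r := by exact_mod_cast C.qeq
    nlinarith
  left
  push Not at hall
  obtain ⟨l₁, hl₁, hl₁0⟩ := hall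
  have hm1 : m l₁ = 0 := by omega
  have hne0 : ∀ l : ZMod q, l * (r : ZMod q) ≠ 0 → l ≠ 0 := fun l h e => h (by rw [e, zero_mul])
  have hl₁ne : l₁ ≠ 0 := hne0 _ (Finset.mem_filter.1 hl₁).2
  have hle1 : ∀ l : ZMod q, l ≠ 0 → m l ≤ 1 := by
    intro l hl
    by_contra hcon
    push Not at hcon
    have hI : Ineq g q l l₁ := C.ineq_of_mult (χ := χ) (by
      show m l ≠ m l₁
      omega)
    have h := C.sum_two hM hl hl₁ne hI
    have h1 := Finset.single_le_sum (f := fun ψ => ((C.mult ψ l : ℝ) - C.mult ψ l₁) ^ 2)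
      (fun _ _ => sq_nonneg _) hχ
    rw [h] at h1
    simp only [← hm, hm1, Nat.cast_zero, sub_zero] at h1
    have : (2 : ℝ) ≤ m l := by exact_mod_cast hcon
    nlinarith
  set m0 := m 0 with hm0
  have hm0w : m0 ^ 2 ≤ w := by
    have h := C.sum_zero hM hl₁ne
    have h1 := Finset.single_le_sum (f := fun ψ => ((C.mult ψ l₁ : ℝ) - C.mult ψ 0) ^ 2)
      (fun _ _ => sq_nonneg _) hχ
    rw [h] at h1
    simp only [← hm, hm1, Nat.cast_zero, zero_sub, neg_sq, ← hm0] at h1
    exact_mod_cast h1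
  have h2m0 : 2 * m0 ≤ w := by
    rcases Nat.lt_or_ge m0 2 with h | h
    · omega
    · nlinarith
  -- ones and zeros outside
  set S1 := L1.filter (fun l => m l ≠ 0) with hS1
  set Z1 := L1.filter (fun l => m l = 0) with hZ1
  have hD1eq : D1 = (S1.card : ℝ) := by
    rw [hD1, hS1, Finset.card_filter, Nat.cast_sum]
    refine Finset.sum_congr rfl fun l hl => ?_
    have := hle1 l (hne0 _ (Finset.mem_filter.1 hl).2)
    split_ifs with h
    · have : m l = 1 := by omega
      rw [this]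
    · have : m l = 0 := by omega
      rw [this]
  have hsplit : S1.card + Z1.card = L1.card := by
    rw [hS1, hZ1, add_comm, Finset.card_filter_add_card_filter_not]
  obtain ⟨l₂, hl₂, hl₂m⟩ := hfaith
  have hl₂one : m l₂ = 1 := by
    have := hle1 l₂ (hne0 _ hl₂)
    have : m l₂ ≠ 0 := hl₂m
    omega
  have hS1w : w ≤ S1.card := by
    refine Finset.card_le_card_of_injOn (fun h => h * l₂) (fun h hh => ?_) fun a ha b hb e => ?_
    · obtain ⟨k, hk, hkh⟩ := C.inv_mem (Finset.mem_coe.1 hh)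
      refine Finset.mem_filter.2 ⟨Finset.mem_filter.2 ⟨Finset.mem_univ _, fun e => hl₂ ?_⟩, ?_⟩
      · calc l₂ * (r : ZMod q) = (k * h) * (l₂ * r) := by rw [hkh, one_mul]
          _ = k * (h * l₂ * r) := by ring
          _ = 0 := by rw [e, mul_zero]
      · show m (h * l₂) ≠ 0
        rw [hm, C.mult_aut χ (Finset.mem_coe.1 hh), ← hm, hl₂one]
        norm_num
    · obtain ⟨k, hk, hkb⟩ := C.inv_mem (Finset.mem_coe.1 hb)
      have h1 := C.free (C.mul_mem hk (Finset.mem_coe.1 ha)) (hne0 _ hl₂) (by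
        rw [mul_assoc]
        show k * ((fun h => h * l₂) a) = l₂
        rw [e]
        show k * (b * l₂) = l₂
        rw [← mul_assoc, hkb, one_mul])
      calc a = (k * b) * a := by rw [hkb, one_mul]
        _ = b * (k * a) := by ring
        _ = b := by rw [h1, mul_one]
  have hM0le : M0 ≤ m0 + ((L0.erase 0).filter (fun l => m l ≠ 0)).card := by
    rw [hM0, ← Finset.add_sum_erase L0 _ (show (0 : ZMod q) ∈ L0 by simp [hL0]), ← hm0,
      Finset.card_filter, Nat.cast_sum]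
    refine add_le_add le_rfl (Finset.sum_le_sum fun l hl => ?_)
    have := hle1 l (Finset.mem_erase.1 hl).1
    split_ifs with h
    · exact_mod_cast this
    · have : m l = 0 := by omega
      rw [this]
  by_cases hS0 : ((L0.erase 0).filter (fun l => m l ≠ 0)) = ∅
  · rw [hS0, Finset.card_empty, Nat.cast_zero, add_zero] at hM0le
    have h1 : 3 * m0 ≤ 2 * S1.card := by omega
    have h1' : 3 * (m0 : ℝ) ≤ 2 * D1 := by rw [hD1eq]; exact_mod_cast h1
    have hD0 : 0 ≤ D1 := by rw [hD1eq]; positivity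
    nlinarith
  obtain ⟨i, hi⟩ := Finset.nonempty_iff_ne_empty.2 hS0
  obtain ⟨hi', him⟩ := Finset.mem_filter.1 hi
  obtain ⟨hi0, hiL⟩ := Finset.mem_erase.1 hi'
  have hiL' : i * (r : ZMod q) = 0 := (Finset.mem_filter.1 hiL).2
  have hiones : m i = 1 := by have := hle1 i hi0; omega
  -- few zeros outside
  have hZ : Z1.card ≤ 2 * w := by
    by_contra hcon
    push Not at hcon
    obtain ⟨j₀, hj₀⟩ := Finset.card_pos.1 (by omega : 0 < Z1.card)
    let orb : ZMod q → Finset (ZMod q) := fun a => (aut g q).image (fun h => h * a)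
    have horb : ∀ a, (orb a).card ≤ w := fun a => Finset.card_image_le
    have hinv : ∀ a b, b ∉ orb a → Ineq g q a b := by
      intro a b hb k hk
      refine ⟨fun e => hb (Finset.mem_image.2 ⟨k, hk, e⟩), fun e => hb ?_⟩
      obtain ⟨k', hk', hkk⟩ := C.inv_mem hk
      exact Finset.mem_image.2 ⟨k', hk', by rw [← e, ← mul_assoc, hkk, one_mul]⟩
    obtain ⟨j, hj⟩ := Finset.card_pos.1 (by
      have := Finset.le_card_sdiff (orb j₀) Z1
      have := horb j₀
      omega : 0 < (Z1 \ orb j₀).card)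
    obtain ⟨j', hj'⟩ := Finset.card_pos.1 (by
      have := Finset.le_card_sdiff (orb j₀ ∪ orb j) Z1
      have := Finset.card_union_le (orb j₀) (orb j)
      have := horb j₀
      have := horb j
      omega : 0 < (Z1 \ (orb j₀ ∪ orb j)).card)
    simp only [Finset.mem_sdiff, Finset.mem_union, not_or, hZ1, hL1, Finset.mem_filter,
      Finset.mem_univ, true_and] at hj₀ hj hj'
    refine C.no_star hM hχ hi0 (hne0 _ hl₂) (hne0 _ hj₀.1) (hne0 _ hj.1.1) (hne0 _ hj'.1.1)
      hiones hl₂one hj₀.2 hj.1.2 hj'.1.2 ?_ (hinv _ _ hj.2) (hinv _ _ hj'.2.1) (hinv _ _ hj'.2.2)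
    intro k hk
    refine ⟨fun e => hl₂ (by rw [← e, mul_assoc, hiL', mul_zero]), fun e => hl₂ ?_⟩
    obtain ⟨k', -, hkk⟩ := C.inv_mem hk
    calc l₂ * (r : ZMod q) = (k' * k) * l₂ * r := by rw [hkk, one_mul]
      _ = k' * ((k * l₂) * r) := by ring
      _ = 0 := by rw [e, hiL', mul_zero]
  have hS0r : ((L0.erase 0).filter (fun l => m l ≠ 0)).card + 1 ≤ r := by
    have h1 := Finset.card_filter_le (L0.erase 0) (fun l => m l ≠ 0)
    rw [Finset.card_erase_of_mem (show (0 : ZMod q) ∈ L0 by simp [hL0]), hcard0] at h1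
    have h2 : 0 < r := by
      rw [← hcard0]; exact Finset.card_pos.2 ⟨i, hiL⟩
    omega
  have hrp : p ≤ r := by
    rcases hr with h | h
    · exfalso
      have : 0 < ((L0.erase 0).filter (fun l => m l ≠ 0)).card := Finset.card_pos.2 ⟨i, hi⟩
      omega
    · refine Nat.le_of_dvd ?_ h
      omega
  set k0 := ((L0.erase 0).filter (fun l => m l ≠ 0)).card with hk0
  have e1 : (S1.card : ℝ) + Z1.card + r = p * r := by
    have h : S1.card + Z1.card + r = p * r := by rw [hsplit, hcard1]; exact C.qeq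
    exact_mod_cast h
  have e2 : (Z1.card : ℝ) ≤ 2 * w := by exact_mod_cast hZ
  have e3 : (k0 : ℝ) + 1 ≤ r := by exact_mod_cast hS0r
  have e4 : 2 * (m0 : ℝ) ≤ w := by exact_mod_cast h2m0
  have e5 : (w : ℝ) ≤ p - 1 := by
    have : w + 1 ≤ p := by omega
    have : (w : ℝ) + 1 ≤ p := by exact_mod_cast this
    linarith
  have e6 : (p : ℝ) ≤ r := by exact_mod_cast hrp
  have e7 : (w : ℝ) ≤ S1.card := by exact_mod_cast hS1w
  have e8 : (2 : ℝ) ≤ w := by exact_mod_cast hw2
  rw [hD1eq]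
  rcases (show p = 3 ∨ 5 ≤ p by
    have h4 : p ≠ 4 := fun e => by have := hp.out; rw [e] at this; norm_num at this
    omega) with h | h
  · subst h
    have hm1 : m0 ≤ 1 := by omega
    have e9 : (m0 : ℝ) ≤ 1 := by exact_mod_cast hm1
    norm_num at e1 e5 e6 ⊢
    nlinarith
  · have e9 : (5 : ℝ) ≤ p := by exact_mod_cast h
    have h10 : ((p : ℝ) - 1) * (11 / 2) ≤ (r : ℝ) * (2 * p - 5) + 3 := by nlinarith
    have hD0 : (0 : ℝ) ≤ S1.card := Nat.cast_nonneg _
    have h11 : 3 * M0 ≤ 2 * (S1.card : ℝ) := by nlinarith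
    nlinarith

theorem Cyc.el_pow (C : Cyc P g q r) (a : ZMod q) (n : ℕ) :
    el g a ^ n = el g ((n : ZMod q) * a) := by
  rw [← ZMod.natCast_zmod_val a, C.el_natCast, ← Nat.cast_mul, C.el_natCast, ← pow_mul, mul_comm]

/-- A simple group with cyclic Sylow `p`-subgroup, `p` odd, nontrivial automizer and all pairs of
elements of order `p` generating `p`-solvable subgroups has Sylow order three. -/
theorem Cyc.contradiction [IsSimpleGroup G] (C : Cyc P g q r) (hM : IsPModular p M) (hp3 : 3 ≤ p)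
    (hnt : ∃ h ∈ aut g q, h ≠ 1) (hr : r = 1 ∨ p ∣ r) (hq : q ≠ 3)
    (hpair : ∀ u ∈ Om p G, ∀ v ∈ Om p G, IsPSolvable p ↥(Subgroup.closure ({u, v} : Set G))) :
    False := by
  classical
  have hqr : q = r * p := by rw [C.qeq, mul_comm]
  obtain ⟨hKe, hKc⟩ := ker_mul_zmod q r p hqr
  set K := Finset.univ.filter (fun x : ZMod q => x * (p : ZMod q) = 0) with hK
  have hK0 : (0 : ZMod q) ∈ K := by simp [hK]
  have hrne : ((r : ℕ) : ZMod q) ≠ 0 := by
    intro e
    rw [ZMod.natCast_eq_zero_iff] at e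
    have h1 := Nat.le_of_dvd (by
      rcases Nat.eq_zero_or_pos r with h | h
      · exact absurd (by rw [hqr, h, zero_mul]) (NeZero.ne q)
      · exact h) e
    have h2 : 0 < q := NeZero.pos q
    nlinarith [hqr, hp.out.two_le]
  have hrK : ((r : ℕ) : ZMod q) ∈ K.erase 0 := by
    refine Finset.mem_erase.2 ⟨hrne, ?_⟩
    simp only [hK, Finset.mem_filter, Finset.mem_univ, true_and]
    rw [← Nat.cast_mul, ← hqr, ZMod.natCast_self]
  have hKcard : (K.erase 0).card = p - 1 := by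
    rw [Finset.card_erase_of_mem hK0, hKe, hKc]
  have hKOm : ∀ a : ZMod q, el g a ∈ Om p G ↔ a ∈ K.erase 0 := by
    intro a
    rw [mem_Om, C.el_pow, Finset.mem_erase, hK, Finset.mem_filter]
    constructor
    · rintro ⟨h1, h2⟩
      refine ⟨fun e => h2 (by rw [e, C.el_zero]), Finset.mem_univ _, ?_⟩
      rw [mul_comm]
      exact C.el_inj (h1.trans C.el_zero.symm)
    · rintro ⟨h1, -, h2⟩
      refine ⟨by rw [mul_comm, h2, C.el_zero], fun e => h1 (C.el_inj (e.trans C.el_zero.symm))⟩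
  -- the automizer
  set w := (aut g q).card with hw
  have hw2 : 2 ≤ w := by
    obtain ⟨h, hh, hne⟩ := hnt
    exact Finset.one_lt_card.2 ⟨h, hh, 1, C.one_mem, hne⟩
  have hinjmul : ∀ a : ZMod q, a ≠ 0 → Set.InjOn (fun h => h * a) (aut g q) := by
    intro a ha x hx y hy e
    obtain ⟨k, hk, hky⟩ := C.inv_mem (Finset.mem_coe.1 hy)
    have h1 := C.free (C.mul_mem hk (Finset.mem_coe.1 hx)) ha (by
      rw [mul_assoc, show x * a = y * a from e, ← mul_assoc, hky, one_mul])
    calc x = (k * y) * x := by rw [hky, one_mul]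
      _ = y * (k * x) := by ring
      _ = y := by rw [h1, mul_one]
  have hinK : ∀ a ∈ K.erase 0, ∀ h ∈ aut g q, h * a ∈ K.erase 0 := by
    intro a ha h hh
    rw [← hKOm] at ha ⊢
    obtain ⟨c, hc⟩ := isConj_iff.1 (C.conj_el hh a)
    rw [← hc]
    exact conj_mem_Om ha c
  have hwp : w ≤ p - 1 := by
    rw [← hKcard]
    exact Finset.card_le_card_of_injOn (fun h => h * (r : ZMod q))
      (fun h hh => hinK _ hrK h hh) (hinjmul _ hrne)
  -- representatives
  have hrep : ∀ u ∈ Om p G, ∃ a ∈ K.erase 0, IsConj u (el g a) := by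
    intro u hu
    have hup : IsPGroup p (Subgroup.zpowers u) := by
      refine IsPGroup.of_card (n := 1) ?_
      rw [Nat.card_zpowers, orderOf_of_mem_Om hu, pow_one]
    obtain ⟨P', hP'⟩ := hup.exists_le_sylow
    obtain ⟨c, hc⟩ := MulAction.exists_smul_eq G P P'
    have h2 : u ∈ (P' : Subgroup G) := hP' (Subgroup.mem_zpowers u)
    rw [← hc, Sylow.coe_subgroup_smul] at h2
    have h3 := Subgroup.mem_pointwise_smul_iff_inv_smul_mem.1 h2
    rw [← map_inv, MulAut.smul_def, MulAut.conj_apply, inv_inv] at h3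
    obtain ⟨a, ha⟩ := C.exists_el h3
    refine ⟨a, (hKOm a).1 (ha ▸ by simpa using conj_mem_Om hu c⁻¹), ?_⟩
    rw [ha]
    exact isConj_iff.2 ⟨c⁻¹, by group⟩
  set s := (Subgroup.centralizer ({el g ((r : ℕ) : ZMod q)} : Set G)).index with hs
  have hcentK : ∀ a ∈ K.erase 0,
      Subgroup.centralizer ({el g a} : Set G) = Subgroup.centralizer ({el g ((r : ℕ) : ZMod q)} : Set G) := by
    intro a ha
    obtain ⟨ha0, haK⟩ := Finset.mem_erase.1 ha
    rw [hKe] at haK
    obtain ⟨i, hi, rfl⟩ := Finset.mem_image.1 haK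
    rw [Finset.mem_range] at hi
    have hi0 : i ≠ 0 := fun e => ha0 (by rw [e, mul_zero, Nat.cast_zero])
    have he : el g ((r * i : ℕ) : ZMod q) = el g ((r : ℕ) : ZMod q) ^ i := by
      rw [C.el_natCast, C.el_natCast, pow_mul]
    obtain ⟨k, -, hk⟩ := Nat.exists_mul_mod_eq_one_of_coprime
      ((hp.out.coprime_iff_not_dvd.mpr fun hd => by
        have := Nat.le_of_dvd (Nat.pos_of_ne_zero hi0) hd; omega).symm : Nat.Coprime i p) hp.out.one_lt
    have hback : el g ((r * i : ℕ) : ZMod q) ^ k = el g ((r : ℕ) : ZMod q) := by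
      rw [he, ← pow_mul]
      conv_rhs => rw [← pow_one (el g ((r : ℕ) : ZMod q))]
      refine pow_eq_pow_iff_modEq.2 ?_
      rw [orderOf_of_mem_Om ((hKOm _).2 hrK), Nat.ModEq, Nat.one_mod_eq_one.2 hp.out.ne_one]
      exact hk
    refine le_antisymm ?_ ?_ <;> intro x hx <;>
      rw [Subgroup.mem_centralizer_singleton_iff] at hx ⊢
    · rw [← hback]; exact (show Commute x _ from hx).pow_right k
    · rw [he]; exact (show Commute x _ from hx).pow_right i
  have H : Hyp P s := by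
    refine ⟨C.comm, fun u hu => ?_, fun u hu => ?_, hpair⟩
    · obtain ⟨a, ha, hua⟩ := hrep u hu
      obtain ⟨c, hc⟩ := isConj_iff.1 hua.symm
      rw [← hc]
      exact compl_conj c _ (C.compl (Finset.mem_erase.1 ha).1)
    · obtain ⟨a, ha, hua⟩ := hrep u hu
      obtain ⟨c, hc⟩ := isConj_iff.1 hua.symm
      rw [← hc, index_centralizer_conj, hcentK a ha]
  have hne : (Om p G).Nonempty := ⟨_, (hKOm _).2 hrK⟩
  -- double counting
  have hdc : ∀ F : G → ℂ, (∀ x y, IsConj x y → F x = F y) →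
      (w : ℂ) * ∑ u ∈ Om p G, F u = (s : ℂ) * ∑ a ∈ K.erase 0, F (el g a) := by
    intro F hF
    calc (w : ℂ) * ∑ u ∈ Om p G, F u
        = ∑ u ∈ Om p G, ∑ a ∈ K.erase 0, if IsConj u (el g a) then F (el g a) else 0 := by
          rw [Finset.mul_sum]
          refine Finset.sum_congr rfl fun u hu => ?_
          obtain ⟨a, ha, hua⟩ := hrep u hu
          rw [← Finset.sum_filter, Finset.sum_congr rfl fun b hb =>
            (hF _ _ (Finset.mem_filter.1 hb).2).symm, Finset.sum_const, nsmul_eq_mul]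
          congr 2
          have e : (K.erase 0).filter (fun b => IsConj u (el g b)) =
              (aut g q).image (fun h => h * a) := by
            ext b
            simp only [Finset.mem_filter, Finset.mem_image]
            constructor
            · rintro ⟨-, hb⟩
              obtain ⟨k, hk, e⟩ := C.exists_of_conj (hua.symm.trans hb)
              exact ⟨k, hk, e.symm⟩
            · rintro ⟨k, hk, rfl⟩
              exact ⟨hinK a ha k hk, hua.trans (C.conj_el hk a)⟩
          rw [e, Finset.card_image_of_injOn (hinjmul a (Finset.mem_erase.1 ha).1)]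
      _ = (s : ℂ) * ∑ a ∈ K.erase 0, F (el g a) := by
          rw [Finset.sum_comm, Finset.mul_sum]
          refine Finset.sum_congr rfl fun a ha => ?_
          rw [← Finset.sum_filter, Finset.sum_const, nsmul_eq_mul]
          congr 1
          norm_cast
          rw [hs, ← hcentK a ha, ← CT.card_conj_class (el g a), ← Nat.card_eq_finsetCard]
          refine Nat.card_congr
            { toFun := fun z => ⟨z.1, (Finset.mem_filter.1 z.2).2.symm⟩
              invFun := fun z => ⟨z.1, Finset.mem_filter.2 ⟨?_, z.2.symm⟩⟩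
              left_inv := fun z => rfl
              right_inv := fun z => rfl }
          obtain ⟨b, hb⟩ := isConj_iff.1 z.2
          rw [← hb]
          exact conj_mem_Om ((hKOm a).2 ha) b
  set N := (Om p G).card with hN
  have hwN : (w : ℝ) * N = (s : ℝ) * ((p : ℝ) - 1) := by
    have h := hdc (fun _ => 1) (fun _ _ _ => rfl)
    simp only [Finset.sum_const, nsmul_eq_mul, mul_one, hKcard, Nat.cast_sub hp.out.one_le,
      Nat.cast_one] at h
    apply Complex.ofReal_injective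
    push_cast
    exact h
  have hN0 : (N : ℝ) ≠ 0 := Nat.cast_ne_zero.2 (Finset.card_ne_zero.2 hne)
  have hs0 : (s : ℝ) ≠ 0 := Nat.cast_ne_zero.2 Subgroup.index_ne_zero_of_finite
  have hp1 : (0 : ℝ) < (p : ℝ) - 1 := by
    have : (3 : ℝ) ≤ p := by exact_mod_cast hp3
    linarith
  have hw0 : (0 : ℝ) < w := by exact_mod_cast (by omega : 0 < w)
  have hcardP : Nat.card (P : Subgroup G) = q := by rw [C.gen, Nat.card_zpowers, C.ord]
  have hR : (Nat.card (P : Subgroup G) : ℝ) * s / (N : ℝ) = q * w / ((p : ℝ) - 1) := by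
    rw [hcardP, div_eq_div_iff hN0 hp1.ne']
    linear_combination -(q : ℝ) * hwN
  have hsq := sum_avg_sq hM H hne
  have hcube := sum_avg_cube hM H hne
  rw [hR] at hsq hcube
  have htriv : avg p ((CT.trivIrr G : IrrCharacter G) : G → ℂ) = 1 := by
    simp only [avg, CT.trivIrr_apply, Finset.sum_const, nsmul_eq_mul, mul_one, Complex.natCast_re]
    exact div_self hN0
  have hd1 : ∀ χ : IrrCharacter G,
      ((χ : G → ℂ) 1).re = ∑ l : ZMod q, (C.mult χ l : ℝ) := by
    intro χ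
    rw [← C.el_zero, ← C.inversion χ 0, Complex.re_sum]
    refine Finset.sum_congr rfl fun l _ => ?_
    rw [mul_zero, AddChar.map_zero_eq_one, mul_one, Complex.natCast_re]
  set L0 := Finset.univ.filter (fun l : ZMod q => l * (r : ZMod q) = 0) with hL0
  have hgeo : ∀ l : ZMod q, ∑ a ∈ K, ZMod.stdAddChar (l * a) =
      if l * (r : ZMod q) = 0 then (p : ℂ) else 0 := by
    intro l
    rw [hKe, Finset.sum_image (fun x hx y hy e => ?_)]
    · have e : ∀ i ∈ Finset.range p, ZMod.stdAddChar (l * ((r * i : ℕ) : ZMod q)) =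
          (ZMod.stdAddChar (l * (r : ZMod q)) : ℂ) ^ i := fun i _ => by
        rw [← AddChar.map_nsmul_eq_pow, nsmul_eq_mul]
        congr 1
        push_cast; ring
      rw [Finset.sum_congr rfl e]
      split_ifs with h
      · simp [h, AddChar.map_zero_eq_one]
      · have hne1 : (ZMod.stdAddChar (l * (r : ZMod q)) : ℂ) ≠ 1 := fun e =>
          h (ZMod.injective_stdAddChar (by rw [e, AddChar.map_zero_eq_one]))
        rw [geom_sum_eq hne1, ← AddChar.map_nsmul_eq_pow, nsmul_eq_mul,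
          show (p : ZMod q) * (l * (r : ZMod q)) = 0 by
            rw [mul_left_comm, ← Nat.cast_mul, mul_comm p r, ← hqr, ZMod.natCast_self, mul_zero],
          AddChar.map_zero_eq_one, sub_self, zero_div]
    · exact Finset.injOn_of_card_image_eq (by rw [hKc, Finset.card_range]) hx hy e
  have havg : ∀ χ : IrrCharacter G, ((p : ℝ) - 1) * avg p (χ : G → ℂ) =
      p * (∑ l ∈ L0, (C.mult χ l : ℝ)) - ((χ : G → ℂ) 1).re := by
    intro χ
    have h := hdc (χ : G → ℂ) (fun x y h =>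
      CT.isClassFunction_isConj (CT.isClassFunction_of_isIrr χ.2) h)
    rw [sum_Om_eq hne (CT.isCharacter_of_isIrr χ.2)] at h
    have hsum : ∑ a ∈ K.erase 0, (χ : G → ℂ) (el g a) =
        (((p : ℝ) * (∑ l ∈ L0, (C.mult χ l : ℝ)) - ((χ : G → ℂ) 1).re : ℝ) : ℂ) := by
      rw [Finset.sum_erase_eq_sub hK0, C.el_zero, Finset.sum_congr rfl fun a _ =>
        (C.inversion χ a).symm, Finset.sum_comm]
      simp only [← Finset.mul_sum, hgeo, mul_ite, mul_zero, ← Finset.sum_filter, ← hL0]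
      rw [CT.deg_eq (CT.isCharacter_of_isIrr χ.2)]
      push_cast
      rw [Complex.natCast_re, Finset.mul_sum]
      push_cast
      congr 1
      exact Finset.sum_congr rfl fun _ _ => by ring
    rw [hsum] at h
    have h' : (w : ℝ) * ((N : ℝ) * avg p (χ : G → ℂ)) =
        (s : ℝ) * (p * (∑ l ∈ L0, (C.mult χ l : ℝ)) - ((χ : G → ℂ) 1).re) := by
      apply Complex.ofReal_injective
      push_cast at h ⊢
      exact h
    apply mul_left_cancel₀ hs0
    linear_combination h' - (avg p (χ : G → ℂ)) * hwN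
  set B := (B0 M G).erase (CT.trivIrr G) with hB
  set R : ℝ := q * w / ((p : ℝ) - 1) with hRdef
  have hsqB : ∑ χ ∈ B, avg p (χ : G → ℂ) ^ 2 = R - 1 := by
    rw [← Finset.add_sum_erase _ _ triv_mem_B0, htriv] at hsq
    linarith
  have hcubeB : (1 - 1 / ((p : ℝ) - 1)) * R - 1 ≤
      ∑ χ ∈ B, avg p (χ : G → ℂ) ^ 3 / ((χ : G → ℂ) 1).re := by
    rw [← Finset.add_sum_erase _ _ triv_mem_B0, htriv] at hcube
    simp only [CT.trivIrr_apply, Complex.one_re] at hcube
    linarith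
  have hwpR : (w : ℝ) ≤ (p : ℝ) - 1 := by
    have h : (w : ℝ) + 1 ≤ p := by exact_mod_cast (show w + 1 ≤ p by omega)
    linarith
  have hRq : R ≤ q := by
    rw [hRdef, div_le_iff₀ hp1]
    exact mul_le_mul_of_nonneg_left hwpR (Nat.cast_nonneg q)
  have hbound : ∀ χ ∈ B, avg p (χ : G → ℂ) ^ 3 / ((χ : G → ℂ) 1).re ≤
      2 / 5 * avg p (χ : G → ℂ) ^ 2 := by
    intro χ hχ
    have hdpos : 0 < ((χ : G → ℂ) 1).re := by
      rw [CT.deg_eq (CT.isCharacter_of_isIrr χ.2), Complex.natCast_re]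
      exact_mod_cast CT.deg_pos χ.2
    have hfa : ∃ l : ZMod q, l * (r : ZMod q) ≠ 0 ∧ C.mult χ l ≠ 0 := by
      by_contra hcon
      push Not at hcon
      refine apply_ne_one_deg (Finset.mem_erase.1 hχ).1 (mem_Om.1 ((hKOm _).2 hrK)).2 ?_
      rw [← C.inversion χ _, ← C.el_zero, ← C.inversion χ 0]
      refine Finset.sum_congr rfl fun l _ => ?_
      by_cases hl : l * (r : ZMod q) = 0
      · rw [hl, mul_zero]
      · rw [hcon l hl, Nat.cast_zero, zero_mul, zero_mul]
    have hsq1 : avg p (χ : G → ℂ) ^ 2 ≤ (q : ℝ) - 1 := by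
      have h := Finset.single_le_sum (f := fun ψ : IrrCharacter G => avg p (ψ : G → ℂ) ^ 2)
        (fun _ _ => sq_nonneg _) hχ
      rw [hsqB] at h
      linarith
    have h := C.degree_bound hM hp3 hw2 hwp hr hχ (hd1 χ) (havg χ) hsq1 hfa
    rw [div_le_iff₀ hdpos]
    nlinarith [mul_le_mul_of_nonneg_left h (sq_nonneg (avg p (χ : G → ℂ)))]
  have hle := Finset.sum_le_sum hbound
  rw [← Finset.mul_sum, hsqB] at hle
  have hpR : (3 : ℝ) ≤ p := by exact_mod_cast hp3
  have hfinal : 3 / 5 < R * (3 / 5 - 1 / ((p : ℝ) - 1)) := by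
    rcases (show p = 3 ∨ 5 ≤ p by
      have h4 : p ≠ 4 := fun e => by have := hp.out; rw [e] at this; norm_num at this
      omega) with h | h
    · have hq9 : 9 ≤ q := by
        rcases hr with h1 | h1
        · exact absurd (by rw [C.qeq, h, h1]) hq
        · have hr0 : 0 < r := Nat.pos_of_ne_zero fun e => hrne (by rw [e, Nat.cast_zero])
          have := Nat.le_of_dvd hr0 h1
          rw [C.qeq]
          nlinarith
      have hw2' : w = 2 := by omega
      have hReq : R = q := by rw [hRdef, h, hw2']; push_cast; ring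
      rw [hReq, h]
      have : (9 : ℝ) ≤ q := by exact_mod_cast hq9
      norm_num
      linarith
    · have h5 : (5 : ℝ) ≤ p := by exact_mod_cast h
      have hqp : (p : ℝ) ≤ q := by
        have hr0 : 0 < r := Nat.pos_of_ne_zero fun e => hrne (by rw [e, Nat.cast_zero])
        have : p ≤ q := by rw [C.qeq]; exact Nat.le_mul_of_pos_right p hr0
        exact_mod_cast this
      have hR2 : 2 ≤ R := by
        rw [hRdef, le_div_iff₀ hp1]
        have hw2R : (2 : ℝ) ≤ w := by exact_mod_cast hw2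
        nlinarith
      have h14 : 1 / ((p : ℝ) - 1) ≤ 1 / 4 := one_div_le_one_div_of_le (by norm_num) (by linarith)
      nlinarith
  nlinarith [hcubeB]

end Cfsg.Agent.PairSolv
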