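import Cfsg.Agent.Lib.PairSolv.CyclicSetup

/-!
# Multiplicities on a cyclic Sylow subgroup in the principal block
-/

set_option autoImplicit false
set_option linter.all false

namespace Cfsg.Agent.PairSolv

open Cfsg Cfsg.Agent Cfsg.Agent.Blocks
open scoped ComplexConjugate

universe u

variable {G : Type u} [Group G] [Fintype G] {p : ℕ} [hp : Fact p.Prime]
variable {P : Sylow p G} {g : G} {q r : ℕ} [NeZero q]

open Classical in
theorem zmod_orth (a : ZMod q) :
    ∑ j : ZMod q, ZMod.stdAddChar (a * j) = if a = 0 then (q : ℂ) else 0 := by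
  have h := AddChar.sum_mulShift (R := ZMod q) a (ZMod.isPrimitive_stdAddChar q)
  rw [Finset.sum_congr rfl fun j _ => by rw [mul_comm a j]]
  rw [h, ZMod.card]
  split_ifs <;> simp

theorem conj_std (x : ZMod q) : conj (ZMod.stdAddChar x : ℂ) = ZMod.stdAddChar (-x) := by
  have h1 : (ZMod.stdAddChar x : ℂ) ^ q = 1 := by
    rw [← AddChar.map_nsmul_eq_pow, nsmul_eq_mul, ZMod.natCast_self, zero_mul,
      AddChar.map_zero_eq_one]
  rw [CT.conj_of_pow_eq_one (NeZero.ne q) h1]
  rw [AddChar.map_neg_eq_inv]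
  refine eq_inv_of_mul_eq_one_left ?_
  rw [← pow_succ, Nat.sub_add_cancel (NeZero.pos q : 1 ≤ q), h1]

theorem Cyc.exists_mult (C : Cyc P g q r) (χ : IrrCharacter G) (l : ZMod q) :
    ∃ m : ℕ, ∑ j : ZMod q, (χ : G → ℂ) (el g j) * ZMod.stdAddChar (-(l * j)) = (q : ℂ) * m := by
  let φ : Multiplicative (ZMod q) →* G :=
    { toFun := fun a => el g a.toAdd
      map_one' := C.el_zero
      map_mul' := fun a b => C.el_add _ _ }
  let lam0 : Multiplicative (ZMod q) →* ℂ :=
    { toFun := fun a => ZMod.stdAddChar (l * a.toAdd)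
      map_one' := by simp [AddChar.map_zero_eq_one]
      map_mul' := fun a b => by simp [mul_add, AddChar.map_add_eq_mul] }
  obtain ⟨m, hm⟩ := CT.classInner_character_nat
    (CT.isCharacter_comp φ (CT.isCharacter_of_isIrr χ.2)) (CT.isCharacter_lin lam0.toHomUnits)
  refine ⟨m, ?_⟩
  have hq : (q : ℂ) ≠ 0 := Nat.cast_ne_zero.2 (NeZero.ne q)
  rw [classInner, inv_mul_eq_iff_eq_mul₀ CT.card_ne_zero] at hm
  rw [Nat.card_congr Multiplicative.toAdd, Nat.card_zmod] at hm
  rw [← hm]
  refine Fintype.sum_equiv Multiplicative.ofAdd _ _ fun j => ?_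
  simp [φ, lam0, conj_std]

/-- The multiplicity of the linear character with exponent `l`. -/
noncomputable def Cyc.mult (C : Cyc P g q r) (χ : IrrCharacter G) (l : ZMod q) : ℕ :=
  (C.exists_mult χ l).choose

theorem Cyc.mult_spec (C : Cyc P g q r) (χ : IrrCharacter G) (l : ZMod q) :
    ∑ j : ZMod q, (χ : G → ℂ) (el g j) * ZMod.stdAddChar (-(l * j)) = (q : ℂ) * C.mult χ l :=
  (C.exists_mult χ l).choose_spec

theorem Cyc.inversion (C : Cyc P g q r) (χ : IrrCharacter G) (j : ZMod q) :
    ∑ l : ZMod q, (C.mult χ l : ℂ) * ZMod.stdAddChar (l * j) = (χ : G → ℂ) (el g j) := by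
  classical
  have hq : (q : ℂ) ≠ 0 := Nat.cast_ne_zero.2 (NeZero.ne q)
  apply mul_left_cancel₀ hq
  rw [Finset.mul_sum]
  calc ∑ l : ZMod q, (q : ℂ) * ((C.mult χ l : ℂ) * ZMod.stdAddChar (l * j))
      = ∑ l : ZMod q, ∑ i : ZMod q, (χ : G → ℂ) (el g i) * ZMod.stdAddChar ((j - i) * l) := by
        refine Finset.sum_congr rfl fun l _ => ?_
        rw [← mul_assoc, ← C.mult_spec, Finset.sum_mul]
        refine Finset.sum_congr rfl fun i _ => ?_
        rw [mul_assoc, ← AddChar.map_add_eq_mul]
        congr 2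
        ring
    _ = (q : ℂ) * (χ : G → ℂ) (el g j) := by
        rw [Finset.sum_comm]
        simp only [← Finset.mul_sum, zmod_orth]
        rw [Finset.sum_eq_single j]
        · simp [mul_comm]
        · intro i _ hne; rw [if_neg (sub_ne_zero.2 (Ne.symm hne)), mul_zero]
        · simp

theorem Cyc.mult_aut (C : Cyc P g q r) (χ : IrrCharacter G) {h : ZMod q} (hh : h ∈ aut g q)
    (l : ZMod q) : C.mult χ (h * l) = C.mult χ l := by
  obtain ⟨k, hk, hkh⟩ := C.inv_mem hh
  have hq : (q : ℂ) ≠ 0 := Nat.cast_ne_zero.2 (NeZero.ne q)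
  have : (q : ℂ) * C.mult χ (h * l) = (q : ℂ) * C.mult χ l := by
    rw [← C.mult_spec, ← C.mult_spec]
    refine Finset.sum_nbij' (fun j => h * j) (fun j => k * j) ?_ ?_ ?_ ?_ ?_
    · intro a _; simp
    · intro a _; simp
    · intro a _; show k * (h * a) = a; rw [← mul_assoc, hkh, one_mul]
    · intro a _; show h * (k * a) = a; rw [← mul_assoc, mul_comm h k, hkh, one_mul]
    · intro a _
      rw [← CT.isClassFunction_isConj (CT.isClassFunction_of_isIrr χ.2) (C.conj_el hh a)]
      congr 2
      ring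
  exact_mod_cast mul_left_cancel₀ hq this

theorem Cyc.mult_triv (C : Cyc P g q r) (l : ZMod q) :
    C.mult (CT.trivIrr G) l = if l = 0 then 1 else 0 := by
  classical
  have hq : (q : ℂ) ≠ 0 := Nat.cast_ne_zero.2 (NeZero.ne q)
  have h := C.mult_spec (CT.trivIrr G) l
  simp only [CT.trivIrr_apply, one_mul, ← neg_mul, zmod_orth, neg_eq_zero] at h
  apply Nat.cast_injective (R := ℂ)
  apply mul_left_cancel₀ hq
  rw [← h]
  split_ifs <;> simp

variable {M : Ideal AlgInt} [M.IsPrime]

open Classical in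
theorem Cyc.sum_diff_sq (C : Cyc P g q r) (hM : IsPModular p M) (l l' : ZMod q) :
    ∑ χ ∈ B0 M G, ((C.mult χ l : ℝ) - C.mult χ l') ^ 2 =
      ∑ h ∈ aut g q, ((if h * l = l then (1 : ℝ) else 0) - (if h * l' = l then 1 else 0) -
        (if h * l = l' then 1 else 0) + (if h * l' = l' then 1 else 0)) := by
  have hq : (q : ℂ) ≠ 0 := Nat.cast_ne_zero.2 (NeZero.ne q)
  let f : ZMod q → ℂ := fun j => ZMod.stdAddChar (-(l * j)) - ZMod.stdAddChar (-(l' * j))
  have hf : ∀ χ : IrrCharacter G, (q : ℂ) * ((C.mult χ l : ℂ) - C.mult χ l') =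
      ∑ j, (χ : G → ℂ) (el g j) * f j := fun χ => by
    rw [mul_sub, ← C.mult_spec, ← C.mult_spec, ← Finset.sum_sub_distrib]
    exact Finset.sum_congr rfl fun j _ => by simp only [f]; ring
  have hf0 : f 0 = 0 := by simp [f]
  have hcol : ∀ i : ZMod q, i ≠ 0 → ∀ j : ZMod q,
      ∑ χ ∈ B0 M G, (χ : G → ℂ) (el g i) * conj ((χ : G → ℂ) (el g j)) =
        ∑ h ∈ aut g q, if j = h * i then (q : ℂ) else 0 := by
    intro i hi j
    have hpow : ∀ a : ZMod q, ∃ k : ℕ, el g a ^ p ^ k = 1 := fun a => by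
      obtain ⟨k, hk⟩ := P.isPGroup' ⟨el g a, C.el_mem a⟩
      exact ⟨k, by simpa using congrArg Subtype.val hk⟩
    have hq' : p ^ (Nat.card (Subgroup.centralizer ({el g i} : Set G))).factorization p = q := by
      rw [← (P.subtype (C.le_centralizer i)).card_eq_multiplicity, Sylow.coe_subtype,
        Nat.card_congr (Subgroup.subgroupOfEquivOfLe (C.le_centralizer i)).toEquiv, C.gen,
        Nat.card_zpowers, C.ord]
    rw [(section_facts hM (hpow i) (C.compl hi) hq').2.2.2 _ (hpow j) inferInstance]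
    by_cases hc : IsConj (el g i) (el g j)
    · obtain ⟨k, hk, hjk⟩ := C.exists_of_conj hc
      rw [if_pos hc, Finset.sum_eq_single k, if_pos hjk]
      · intro h hh hne
        refine if_neg fun e => hne ?_
        obtain ⟨k', hk', hkk⟩ := C.inv_mem hk
        have h1 : k' * h = 1 := C.free (C.mul_mem hk' hh) hi (by
          rw [mul_assoc, ← e, hjk, ← mul_assoc, hkk, one_mul])
        calc h = (k' * k) * h := by rw [hkk, one_mul]
          _ = k * (k' * h) := by ring
          _ = k := by rw [h1, mul_one]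
      · exact fun hn => absurd hk hn
    · rw [if_neg hc]
      exact (Finset.sum_eq_zero fun h hh => if_neg fun e => hc (by rw [e]; exact C.conj_el hh i)).symm
  have key : (q : ℂ) * q * ((∑ χ ∈ B0 M G, ((C.mult χ l : ℝ) - C.mult χ l') ^ 2 : ℝ) : ℂ) =
      (q : ℂ) * ∑ h ∈ aut g q, ∑ i, f i * conj (f (h * i)) := by
    calc (q : ℂ) * q * ((∑ χ ∈ B0 M G, ((C.mult χ l : ℝ) - C.mult χ l') ^ 2 : ℝ) : ℂ)
        = ∑ χ ∈ B0 M G, (∑ i, (χ : G → ℂ) (el g i) * f i) *
            conj (∑ j, (χ : G → ℂ) (el g j) * f j) := by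
          push_cast
          rw [Finset.mul_sum]
          refine Finset.sum_congr rfl fun χ _ => ?_
          rw [← hf, map_mul, map_sub, map_natCast, map_natCast, map_natCast]
          ring
      _ = ∑ i, ∑ j, (f i * conj (f j)) *
            ∑ χ ∈ B0 M G, (χ : G → ℂ) (el g i) * conj ((χ : G → ℂ) (el g j)) := by
          simp only [map_sum, Finset.sum_mul_sum]
          rw [Finset.sum_comm]
          refine Finset.sum_congr rfl fun i _ => ?_
          rw [Finset.sum_comm]
          refine Finset.sum_congr rfl fun j _ => ?_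
          rw [Finset.mul_sum]
          exact Finset.sum_congr rfl fun χ _ => by rw [map_mul]; ring
      _ = ∑ i, ∑ h ∈ aut g q, (q : ℂ) * (f i * conj (f (h * i))) := by
          refine Finset.sum_congr rfl fun i _ => ?_
          by_cases hi : i = 0
          · subst hi; simp [hf0]
          rw [Finset.sum_congr rfl fun j _ => by rw [hcol i hi j, Finset.mul_sum], Finset.sum_comm]
          refine Finset.sum_congr rfl fun h _ => ?_
          simp only [mul_ite, mul_zero, Finset.sum_ite_eq', Finset.mem_univ, if_true]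
          ring
      _ = _ := by
          rw [Finset.sum_comm, Finset.mul_sum]
          exact Finset.sum_congr rfl fun h _ => by rw [Finset.mul_sum]
  have hterm : ∀ h : ZMod q, ∑ i, f i * conj (f (h * i)) = (q : ℂ) *
      (((if h * l = l then (1 : ℝ) else 0) - (if h * l' = l then 1 else 0) -
        (if h * l = l' then 1 else 0) + (if h * l' = l' then 1 else 0) : ℝ) : ℂ) := by
    intro h
    have e : ∀ a b : ZMod q, ∑ i, ZMod.stdAddChar (-(a * i)) * ZMod.stdAddChar (b * (h * i)) =
        if h * b = a then (q : ℂ) else 0 := by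
      intro a b
      rw [Finset.sum_congr rfl fun i _ => by
        rw [← AddChar.map_add_eq_mul, show -(a * i) + b * (h * i) = (h * b - a) * i by ring],
        zmod_orth]
      exact if_congr sub_eq_zero rfl rfl
    simp only [f, map_sub, conj_std, neg_neg, sub_mul, mul_sub, Finset.sum_sub_distrib, e]
    push_cast
    split_ifs <;> push_cast <;> ring
  rw [Finset.sum_congr rfl fun h _ => hterm h, ← Finset.mul_sum, ← mul_assoc] at key
  have h2 := mul_left_cancel₀ (mul_ne_zero hq hq) key
  rw [← Complex.ofReal_sum] at h2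
  exact Complex.ofReal_injective h2

end Cfsg.Agent.PairSolv
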