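import Cfsg.Agent.Lib.PairSolv.Tools
import Cfsg.Agent.Lib.Blocks.SylowCentralizer
import Mathlib.Analysis.SpecialFunctions.Complex.CircleAddChar

/-!
# A cyclic Sylow subgroup and its automizer
-/

set_option autoImplicit false
set_option linter.all false

namespace Cfsg.Agent.PairSolv

open Cfsg Cfsg.Agent Cfsg.Agent.Blocks
open scoped ComplexConjugate

universe u

/-- The solutions of `x * b = 0` in `ZMod (a * b)`. -/
theorem ker_mul_zmod (n a b : ℕ) [NeZero n] (hn : n = a * b) :
    (Finset.univ.filter fun x : ZMod n => x * (b : ZMod n) = 0) =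
      (Finset.range b).image (fun i => ((a * i : ℕ) : ZMod n)) ∧
    ((Finset.range b).image (fun i => ((a * i : ℕ) : ZMod n))).card = b := by
  have hb : 0 < b := by
    rcases Nat.eq_zero_or_pos b with h | h
    · exact absurd (by rw [hn, h, mul_zero]) (NeZero.ne n)
    · exact h
  have ha : 0 < a := by
    rcases Nat.eq_zero_or_pos a with h | h
    · exact absurd (by rw [hn, h, zero_mul]) (NeZero.ne n)
    · exact h
  constructor
  · ext x
    simp only [Finset.mem_filter, Finset.mem_univ, true_and, Finset.mem_image, Finset.mem_range]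
    constructor
    · intro h
      rw [← ZMod.natCast_zmod_val x, ← Nat.cast_mul, ZMod.natCast_eq_zero_iff] at h
      have h' : a * b ∣ x.val * b := hn.symm.dvd.trans h
      obtain ⟨i, hi⟩ := Nat.dvd_of_mul_dvd_mul_right hb h'
      refine ⟨i, ?_, by rw [← hi, ZMod.natCast_zmod_val]⟩
      have hlt := ZMod.val_lt x
      have hlt' : a * i < a * b := by omega
      exact Nat.lt_of_mul_lt_mul_left hlt'
    · rintro ⟨i, -, rfl⟩
      rw [← Nat.cast_mul, ZMod.natCast_eq_zero_iff, hn]
      exact ⟨i, by ring⟩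
  · rw [Finset.card_image_of_injOn, Finset.card_range]
    intro i hi j hj e
    simp only [Finset.coe_range, Set.mem_Iio] at hi hj
    have hv := congrArg ZMod.val e
    rw [ZMod.val_natCast, ZMod.val_natCast, Nat.mod_eq_of_lt, Nat.mod_eq_of_lt] at hv
    · exact Nat.eq_of_mul_eq_mul_left ha hv
    · rw [hn]; exact Nat.mul_lt_mul_of_pos_left hj ha
    · rw [hn]; exact Nat.mul_lt_mul_of_pos_left hi ha

variable {G : Type u} [Group G] [Fintype G] {p : ℕ} [hp : Fact p.Prime]

/-- A generator of a cyclic Sylow subgroup of order `q = p * r`. -/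
structure Cyc (P : Sylow p G) (g : G) (q r : ℕ) : Prop where
  qeq : q = p * r
  ord : orderOf g = q
  gen : (P : Subgroup G) = Subgroup.zpowers g

/-- The powers of the generator. -/
def el (g : G) {q : ℕ} (j : ZMod q) : G := g ^ j.val

variable {P : Sylow p G} {g : G} {q r : ℕ} [NeZero q]

theorem Cyc.el_natCast (C : Cyc P g q r) (k : ℕ) : el g (k : ZMod q) = g ^ k := by
  rw [el, ZMod.val_natCast, ← C.ord, pow_mod_orderOf]

theorem Cyc.el_mul (C : Cyc P g q r) (a b : ZMod q) : el g (a * b) = el g b ^ a.val := by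
  have h : a * b = ((b.val * a.val : ℕ) : ZMod q) := by
    push_cast; rw [ZMod.natCast_zmod_val, ZMod.natCast_zmod_val]; ring
  rw [h, C.el_natCast, el, pow_mul]

theorem Cyc.el_add (C : Cyc P g q r) (a b : ZMod q) : el g (a + b) = el g a * el g b := by
  have h : a + b = ((a.val + b.val : ℕ) : ZMod q) := by
    push_cast; rw [ZMod.natCast_zmod_val, ZMod.natCast_zmod_val]
  rw [h, C.el_natCast, el, el, pow_add]

theorem Cyc.el_zero (C : Cyc P g q r) : el g (0 : ZMod q) = 1 := by
  simp [el]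

theorem Cyc.el_inj (C : Cyc P g q r) {a b : ZMod q} (h : el g a = el g b) : a = b := by
  apply ZMod.val_injective
  refine pow_injOn_Iio_orderOf ?_ ?_ h <;> rw [C.ord] <;> exact ZMod.val_lt _

theorem Cyc.el_mem (C : Cyc P g q r) (a : ZMod q) : el g a ∈ (P : Subgroup G) := by
  rw [C.gen]; exact Subgroup.npow_mem_zpowers g _

theorem Cyc.exists_el (C : Cyc P g q r) {x : G} (hx : x ∈ (P : Subgroup G)) :
    ∃ a : ZMod q, el g a = x := by
  classical
  rw [C.gen, mem_zpowers_iff_mem_range_orderOf] at hx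
  obtain ⟨k, -, rfl⟩ := Finset.mem_image.1 hx
  exact ⟨k, C.el_natCast k⟩

theorem Cyc.comm (C : Cyc P g q r) :
    ∀ x ∈ (P : Subgroup G), ∀ y ∈ (P : Subgroup G), x * y = y * x := by
  intro x hx y hy
  obtain ⟨a, rfl⟩ := C.exists_el hx
  obtain ⟨b, rfl⟩ := C.exists_el hy
  rw [← C.el_add, ← C.el_add, add_comm]

/-- The exponents of the conjugates of the generator in `P`. -/
noncomputable def aut (g : G) (q : ℕ) [NeZero q] : Finset (ZMod q) := by
  classical exact Finset.univ.filter (fun h => IsConj g (el g h))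

theorem mem_aut {h : ZMod q} : h ∈ aut g q ↔ IsConj g (el g h) := by simp [aut]

theorem Cyc.el_one (C : Cyc P g q r) : el g (1 : ZMod q) = g := by
  rw [← Nat.cast_one, C.el_natCast, pow_one]

theorem Cyc.one_mem (C : Cyc P g q r) : (1 : ZMod q) ∈ aut g q :=
  mem_aut.2 (by rw [C.el_one])

theorem Cyc.conj_el (C : Cyc P g q r) {h : ZMod q} (hh : h ∈ aut g q) (a : ZMod q) :
    IsConj (el g a) (el g (h * a)) := by
  obtain ⟨c, hc⟩ := isConj_iff.1 (mem_aut.1 hh)
  refine isConj_iff.2 ⟨c, ?_⟩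
  rw [mul_comm, C.el_mul, ← hc, conj_pow]
  rfl

theorem Cyc.le_centralizer (C : Cyc P g q r) (a : ZMod q) :
    (P : Subgroup G) ≤ Subgroup.centralizer ({el g a} : Set G) := fun x hx =>
  Subgroup.mem_centralizer_singleton_iff.mpr (C.comm x hx _ (C.el_mem a))

theorem Cyc.exists_norm (C : Cyc P g q r) {a b : ZMod q} (h : IsConj (el g a) (el g b)) :
    ∃ n ∈ Subgroup.normalizer ((P : Subgroup G) : Set G), n * el g a * n⁻¹ = el g b := by
  refine exists_normalizer_conj (p := p) h (C.le_centralizer a) (C.le_centralizer b) ?_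
  rw [← (P.subtype (C.le_centralizer b)).card_eq_multiplicity, Sylow.coe_subtype]
  exact (Nat.card_congr (Subgroup.subgroupOfEquivOfLe (C.le_centralizer b)).toEquiv).symm

/-- The automizer is cut out by the normalizer. -/
theorem Cyc.exists_of_conj (C : Cyc P g q r) {a b : ZMod q} (h : IsConj (el g a) (el g b)) :
    ∃ k ∈ aut g q, b = k * a := by
  obtain ⟨n, hn, he⟩ := C.exists_norm h
  have h1 : n * g * n⁻¹ ∈ (P : Subgroup G) := by
    refine (Subgroup.mem_normalizer_iff.mp hn g).mp ?_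
    rw [C.gen]; exact Subgroup.mem_zpowers g
  obtain ⟨k, hk⟩ := C.exists_el h1
  refine ⟨k, mem_aut.2 (isConj_iff.2 ⟨n, hk.symm⟩), C.el_inj ?_⟩
  rw [mul_comm, C.el_mul, hk, ← he, conj_pow]
  rfl

theorem Cyc.inv_mem (C : Cyc P g q r) {h : ZMod q} (hh : h ∈ aut g q) :
    ∃ k ∈ aut g q, k * h = 1 := by
  obtain ⟨k, hk, e⟩ := C.exists_of_conj (a := h) (b := 1) (by
    rw [C.el_one]; exact (mem_aut.1 hh).symm)
  exact ⟨k, hk, e.symm⟩

theorem Cyc.mul_mem (C : Cyc P g q r) {h k : ZMod q} (hh : h ∈ aut g q) (hk : k ∈ aut g q) :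
    h * k ∈ aut g q :=
  mem_aut.2 ((mem_aut.1 hk).trans (C.conj_el hh k))

/-- The automizer has order prime to `p`. -/
theorem Cyc.pow_eq_one (C : Cyc P g q r) :
    ∃ m : ℕ, ¬ p ∣ m ∧ ∀ h ∈ aut g q, h ^ m = 1 := by
  set Nm := Subgroup.normalizer ((P : Subgroup G) : Set G) with hNm
  haveI : ((P : Subgroup G).subgroupOf Nm).Normal := Subgroup.normal_in_normalizer
  refine ⟨((P : Subgroup G).subgroupOf Nm).index, ?_, fun h hh => ?_⟩
  · intro hd
    exact P.not_dvd_index (hd.trans (Subgroup.relIndex_dvd_index_of_le Subgroup.le_normalizer))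
  obtain ⟨n, hn, he⟩ := C.exists_norm (a := 1) (b := h) (by rw [C.el_one]; exact mem_aut.1 hh)
  rw [C.el_one] at he
  set m := ((P : Subgroup G).subgroupOf Nm).index
  have h1 : ∀ k : ℕ, n ^ k * g * (n ^ k)⁻¹ = el g (h ^ k) := by
    intro k
    induction k with
    | zero => simp [C.el_one]
    | succ k ih =>
      calc n ^ (k + 1) * g * (n ^ (k + 1))⁻¹ = n * (n ^ k * g * (n ^ k)⁻¹) * n⁻¹ := by
            rw [pow_succ']; group
        _ = n * el g (h ^ k) * n⁻¹ := by rw [ih]
        _ = el g (h ^ (k + 1)) := by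
            rw [pow_succ, C.el_mul, ← he, conj_pow]; rfl
  have h2 : n ^ m ∈ (P : Subgroup G) := by
    have := ((P : Subgroup G).subgroupOf Nm).pow_index_mem ⟨n, hn⟩
    exact this
  apply C.el_inj
  rw [← h1, C.el_one, C.comm _ h2 g (C.el_one ▸ C.el_mem 1), mul_inv_cancel_right]

/-- The automizer acts semiregularly. -/
theorem Cyc.free (C : Cyc P g q r) {h a : ZMod q} (hh : h ∈ aut g q) (ha : a ≠ 0)
    (e : h * a = a) : h = 1 := by
  obtain ⟨e₁, he₁⟩ : ∃ e₁, q = p ^ e₁ := by
    obtain ⟨k, hk⟩ := IsPGroup.iff_card.mp P.isPGroup'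
    refine ⟨k, ?_⟩
    rw [← hk, C.gen, Nat.card_zpowers, C.ord]
  obtain ⟨m, hm, hpow⟩ := C.pow_eq_one
  have hdvd : ((p : ℕ) : ℤ) ∣ ((h.val : ℤ) - 1) := by
    by_contra hnd
    apply ha
    have hu : IsUnit (((h.val : ℤ) - 1 : ℤ) : ZMod q) := by
      rw [ZMod.coe_int_isUnit_iff_isCoprime]
      have h1 := ((Nat.prime_iff_prime_int.mp hp.out).coprime_iff_not_dvd.mpr hnd).pow_left (m := e₁)
      rw [show ((q : ℕ) : ℤ) = (p : ℤ) ^ e₁ by rw [he₁]; push_cast; rfl]
      first | exact h1 | exact h1.symm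
    have hz : (((h.val : ℤ) - 1 : ℤ) : ZMod q) * a = 0 := by
      push_cast
      rw [ZMod.natCast_zmod_val, sub_mul, e, one_mul, sub_self]
    exact (IsUnit.mul_right_eq_zero hu).1 hz
  have h3 : h ^ p ^ e₁ = 1 := by
    have h4 := dvd_sub_pow_of_dvd_sub hdvd e₁
    rw [one_pow] at h4
    have h5 : ((((h.val : ℤ)) ^ p ^ e₁ - 1 : ℤ) : ZMod q) = 0 := by
      rw [ZMod.intCast_zmod_eq_zero_iff_dvd]
      refine dvd_trans ?_ h4
      rw [he₁]
      push_cast
      exact pow_dvd_pow _ (Nat.le_succ _)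
    push_cast at h5
    rw [ZMod.natCast_zmod_val, sub_eq_zero] at h5
    exact h5
  have := pow_gcd_eq_one.mpr ⟨h3, hpow h hh⟩
  rwa [(Nat.Coprime.pow_left e₁ (hp.out.coprime_iff_not_dvd.mpr hm)).gcd_eq_one, pow_one] at this

/-- Centralizers of nontrivial elements of `P` are `p`-nilpotent. -/
theorem Cyc.compl (C : Cyc P g q r) {a : ZMod q} (ha : a ≠ 0) :
    ∃ k : ℕ, (pPrimeCore p (Subgroup.centralizer ({el g a} : Set G))).index = p ^ k := by
  set Cx := Subgroup.centralizer ({el g a} : Set G)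
  have hPC := C.le_centralizer a
  set P' : Sylow p Cx := P.subtype hPC
  have hle : Subgroup.normalizer ((P' : Subgroup Cx) : Set Cx) ≤
      Subgroup.centralizer ((P' : Subgroup Cx) : Set Cx) := by
    intro x hx
    have hm' : ∀ w : Cx, w ∈ (P' : Subgroup Cx) ↔ (w : G) ∈ (P : Subgroup G) := fun w => by
      rw [Sylow.coe_subtype]; exact Subgroup.mem_subgroupOf
    have h1 : (x : G) * g * (x : G)⁻¹ ∈ (P : Subgroup G) := by
      have hg : g ∈ (P : Subgroup G) := C.el_one ▸ C.el_mem 1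
      exact (hm' _).mp ((Subgroup.mem_normalizer_iff.mp hx ⟨g, hPC hg⟩).mp ((hm' _).mpr hg))
    obtain ⟨k, hk⟩ := C.exists_el h1
    have hka : k * a = a := by
      apply C.el_inj
      rw [mul_comm, C.el_mul, hk, conj_pow, show g ^ a.val = el g a from rfl,
        Subgroup.mem_centralizer_singleton_iff.mp x.2, mul_inv_cancel_right]
    have hk1 := C.free (mem_aut.2 (isConj_iff.2 ⟨x, hk.symm⟩)) ha hka
    rw [hk1, C.el_one] at hk
    refine Subgroup.mem_centralizer_iff.mpr fun w hw => Subtype.ext ?_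
    obtain ⟨b, hb⟩ := C.exists_el ((hm' w).mp hw)
    show (w : G) * x = x * w
    rw [← hb, el]
    exact ((show Commute (x : G) g from mul_inv_eq_iff_eq_mul.mp hk.symm).pow_right b.val).symm
  have hK := MonoidHom.ker_transferSylow_isComplement' P' hle
  set K := (MonoidHom.transferSylow P' hle).ker
  exact index_core_of_complement ⟨P', K, inferInstance, hK⟩

end Cfsg.Agent.PairSolv
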