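import Cfsg.Agent.Lib.Blocks.Section
import Cfsg.Agent.Lib.Blocks.Subsection
import Cfsg.Agent.Lib.Basics.Cores
import Cfsg.Agent.Lib.ClassSum.Basic
import Cfsg.Agent.S0942

/-!
# Sections of elements with `p`-nilpotent centralizer in the principal block
-/

set_option autoImplicit false
set_option linter.all false

namespace Cfsg.Agent.PairSolv

open Cfsg Cfsg.Agent Cfsg.Agent.Blocks
open scoped ComplexConjugate

universe u

variable {G : Type u} [Group G] [Fintype G] {p : ℕ} [hp : Fact p.Prime] {M : Ideal AlgInt}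
  [M.IsPrime]

/-- The members of the principal block as a finset. -/
noncomputable def B0 (M : Ideal AlgInt) [M.IsPrime] (G : Type u) [Group G] [Fintype G] :
    Finset (IrrCharacter G) := by
  classical exact Finset.univ.filter (· ∈ principalBlock M G)

theorem mem_B0 {χ : IrrCharacter G} : χ ∈ B0 M G ↔ χ ∈ principalBlock M G := by
  simp [B0]

theorem triv_mem_B0 : CT.trivIrr G ∈ B0 M G := mem_B0.2 trivIrr_mem_principalBlock

/-- The `p`-part of a nontrivial centralizer with normal `p`-complement: its `p`-regular elements. -/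
noncomputable def regC (p : ℕ) (u : G) : Finset G := by
  classical exact Finset.univ.filter (fun k => Commute k u ∧ ¬ p ∣ orderOf k)

omit hp in
theorem mem_regC {u k : G} : k ∈ regC p u ↔ Commute k u ∧ ¬ p ∣ orderOf k := by
  simp [regC]

/-- The facts on the section of `u`. -/
theorem section_facts (hM : IsPModular p M) {u : G} (hu : ∃ k : ℕ, u ^ p ^ k = 1)
    (hcompl : ∃ k : ℕ, (pPrimeCore p (Subgroup.centralizer ({u} : Set G))).index = p ^ k)
    {q : ℕ} (hq : p ^ (Nat.card (Subgroup.centralizer ({u} : Set G))).factorization p = q) :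
    Nat.card (Subgroup.centralizer ({u} : Set G)) = q * (regC p u).card ∧
    (∀ χ : IrrCharacter G, χ ∈ principalBlock M G →
      ∑ k ∈ regC p u, (χ : G → ℂ) (u * k) = ((regC p u).card : ℂ) * (χ : G → ℂ) u) ∧
    (∀ χ : IrrCharacter G, χ ∉ principalBlock M G →
      ∑ k ∈ regC p u, (χ : G → ℂ) (u * k) = 0) ∧
    ∀ w : G, (∃ k : ℕ, w ^ p ^ k = 1) → ∀ (_ : Decidable (IsConj u w)),
      ∑ χ ∈ B0 M G, (χ : G → ℂ) u * conj ((χ : G → ℂ) w) = if IsConj u w then (q : ℂ) else 0 := by
  classical
  set C := Subgroup.centralizer ({u} : Set G) with hCdef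
  letI := Fintype.ofFinite C
  set K := pPrimeCore p C with hKdef
  letI := Fintype.ofFinite K
  haveI : K.Normal := Basics.pPrimeCore_normal p
  have hKp : ¬ p ∣ Nat.card K := Basics.not_dvd_card_pPrimeCore p
  have hyK : ∀ y : K, ¬ p ∣ orderOf ((y : C)) := fun y hd =>
    hKp (hd.trans (Subgroup.orderOf_dvd_natCard K y.2))
  have hreg : ∀ F : G → ℂ, ∑ k ∈ regC p u, F k = ∑ y : K, F ((y : C) : G) := by
    intro F
    refine Finset.sum_bij' (fun k hk => ⟨⟨k, Subgroup.mem_centralizer_singleton_iff.mpr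
        (mem_regC.1 hk).1⟩, mem_of_pow_index hcompl (by
          rw [← Subgroup.orderOf_coe]; exact (mem_regC.1 hk).2)⟩)
      (fun y _ => ((y : C) : G)) (fun k hk => Finset.mem_univ _) (fun y _ => ?_)
      (fun k hk => rfl) (fun y _ => rfl) (fun k hk => rfl)
    exact mem_regC.2 ⟨Subgroup.mem_centralizer_singleton_iff.mp (y : C).2,
      by rw [Subgroup.orderOf_coe]; exact hyK y⟩
  have hcardK : (regC p u).card = Nat.card K := by
    have h1 : ((regC p u).card : ℂ) = (Fintype.card K : ℂ) := by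
      have h := hreg fun _ => 1
      simpa using h
    rw [Nat.card_eq_fintype_card]; exact_mod_cast h1
  have hpp : ∀ y : K, IsPPart p (u * ((y : C) : G)) u := fun y =>
    isPPart_mk (Subgroup.mem_centralizer_singleton_iff.mp (y : C).2).symm hu
      (by rw [Subgroup.orderOf_coe]; exact hyK y)
  set A : IrrCharacter G → ℂ := fun χ =>
    (Nat.card K : ℂ)⁻¹ * ∑ y : K, (χ : G → ℂ) (u * ((y : C) : G)) with hA
  have hK0 : (Nat.card K : ℂ) ≠ 0 := CT.card_ne_zero
  have hconst : ∀ χ ∈ principalBlock M G, ∀ y : K,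
      (χ : G → ℂ) (u * ((y : C) : G)) = (χ : G → ℂ) u := by
    intro χ hχ y
    refine Cfsg.Agent.S0942.result p M hM u ?_ _ ⟨(y : C), y.2, rfl⟩ χ hχ
    obtain ⟨k, hk⟩ := hu
    obtain ⟨i, -, hi⟩ := (Nat.dvd_prime_pow hp.out).mp (orderOf_dvd_of_pow_eq_one hk)
    exact ⟨i, hi⟩
  have hAB : ∀ χ ∈ principalBlock M G, A χ = (χ : G → ℂ) u := fun χ hχ => by
    simp only [hA, hconst χ hχ, Finset.sum_const, Finset.card_univ, ← Nat.card_eq_fintype_card,
      nsmul_eq_mul]
    rw [← mul_assoc, inv_mul_cancel₀ hK0, one_mul]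
  have hCKn : Nat.card C = q * Nat.card K := by
    obtain ⟨k, hk⟩ := hcompl
    have h1 : Nat.card K * K.index = Nat.card C := Subgroup.card_mul_index K
    have h2 : (Nat.card C).factorization p = k := by
      rw [← h1, show K.index = p ^ k from hk, Nat.factorization_mul Nat.card_pos.ne'
        (pow_ne_zero _ hp.out.ne_zero), Finsupp.coe_add, Pi.add_apply,
        Nat.factorization_eq_zero_of_not_dvd hKp, hp.out.factorization_pow,
        Finsupp.single_eq_same, zero_add]
    rw [← hq, h2, ← h1, show K.index = p ^ k from hk, mul_comm]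
  have hCK : (Nat.card C : ℂ) = (q : ℂ) * (Nat.card K : ℂ) := by rw [hCKn]; push_cast; ring
  -- the norm of the averages
  have htot : ∑ χ : IrrCharacter G, A χ * conj (A χ) = (q : ℂ) := by
    have e1 : ∀ y y' : K, ∑ χ : IrrCharacter G, (χ : G → ℂ) (u * ((y : C) : G)) *
        conj ((χ : G → ℂ) (u * ((y' : C) : G))) =
        if IsConj (y : C) (y' : C) then (Nat.card (Subgroup.centralizer ({(y : C)} : Set C)) : ℂ)
        else 0 := fun y y' => by
      rw [section_column hp.out hu (hyK y') (hyK y), CT.column_orthogonality]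
      split_ifs <;> rfl
    have e2 : ∀ y : K, ∑ y' : K, (if IsConj (y : C) (y' : C) then
        (Nat.card (Subgroup.centralizer ({(y : C)} : Set C)) : ℂ) else 0) = (Nat.card C : ℂ) := by
      intro y
      rw [← Finset.sum_filter, Finset.sum_const, nsmul_eq_mul,
        ← CT.card_conj_class_mul_centralizer (y : C), Nat.cast_mul]
      congr 2
      rw [← Fintype.card_subtype, ← Nat.card_eq_fintype_card]
      exact Nat.card_congr
        { toFun := fun z => ⟨((z.1 : K) : C), z.2⟩
          invFun := fun z => ⟨⟨z.1, by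
            obtain ⟨c, hc⟩ := isConj_iff.mp z.2
            rw [← hc]
            exact (inferInstance : K.Normal).conj_mem _ y.2 c⟩, z.2⟩
          left_inv := fun z => rfl
          right_inv := fun z => rfl }
    rw [Finset.sum_congr rfl fun χ _ => show A χ * conj (A χ) = (Nat.card K : ℂ)⁻¹ *
        (Nat.card K : ℂ)⁻¹ * ∑ y : K, ∑ y' : K, (χ : G → ℂ) (u * ((y : C) : G)) *
          conj ((χ : G → ℂ) (u * ((y' : C) : G))) by
      simp only [hA, map_mul, map_inv₀, map_natCast, map_sum]
      rw [mul_mul_mul_comm, Finset.sum_mul_sum], ← Finset.mul_sum, Finset.sum_comm,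
      Finset.sum_congr rfl fun y _ => by
        rw [Finset.sum_comm, Finset.sum_congr rfl fun y' _ => e1 y y', e2 y],
      Finset.sum_const, Finset.card_univ, ← Nat.card_eq_fintype_card, nsmul_eq_mul, hCK]
    field_simp
  have hsq : ∑ χ ∈ B0 M G, (χ : G → ℂ) u * conj ((χ : G → ℂ) u) = (q : ℂ) := by
    have h1 : ∑ᶠ ζ ∈ principalBlock M G, ‖(ζ : G → ℂ) (u * ((1 : C) : G))‖ ^ 2 = _ :=
      section_sums hM hu (y := 1) (by rw [orderOf_one]; exact hp.out.not_dvd_one)
    rw [sum_sq_of_normal_complement hM hcompl (by rw [orderOf_one]; exact hp.out.not_dvd_one), hq,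
      finsum_mem_eq_toFinset_sum] at h1
    rw [show (q : ℂ) = ((q : ℝ) : ℂ) by simp, ← h1, Complex.ofReal_sum]
    refine Finset.sum_congr (by ext; simp [mem_B0]) fun χ _ => ?_
    rw [OneMemClass.coe_one, mul_one, Complex.mul_conj, Complex.normSq_eq_norm_sq]
  have hAout : ∀ χ, χ ∉ principalBlock M G → A χ = 0 := by
    intro χ hχ
    have h0 : ∑ χ ∈ Finset.univ.filter (fun χ => χ ∉ principalBlock M G), A χ * conj (A χ) = 0 := by
      have := htot
      rw [← Finset.sum_filter_add_sum_filter_not Finset.univ (· ∈ principalBlock M G),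
        Finset.sum_congr rfl fun ψ hψ => by rw [hAB ψ (Finset.mem_filter.mp hψ).2],
        show Finset.univ.filter (· ∈ principalBlock M G) = B0 M G by ext; simp [mem_B0], hsq] at this
      exact add_eq_left.mp this
    simp only [Complex.mul_conj, ← Complex.ofReal_sum, Complex.ofReal_eq_zero] at h0
    exact Complex.normSq_eq_zero.mp ((Finset.sum_eq_zero_iff_of_nonneg
      fun _ _ => Complex.normSq_nonneg _).mp h0 χ (Finset.mem_filter.mpr ⟨Finset.mem_univ _, hχ⟩))
  refine ⟨by rw [hcardK]; exact hCKn, fun χ hχ => ?_, fun χ hχ => ?_, fun w hw _ => ?_⟩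
  · rw [hreg fun k => (χ : G → ℂ) (u * k), Finset.sum_congr rfl fun y _ => hconst χ hχ y,
      Finset.sum_const, Finset.card_univ, ← Nat.card_eq_fintype_card, nsmul_eq_mul, hcardK]
  · rw [hreg fun k => (χ : G → ℂ) (u * k)]
    exact (mul_eq_zero.1 (hAout χ hχ)).resolve_left (inv_ne_zero hK0)
  · split_ifs with h
    · rw [← hsq]
      refine Finset.sum_congr rfl fun χ _ => ?_
      rw [CT.isClassFunction_isConj (CT.isClassFunction_of_isIrr χ.2) h]
    · have hred : ∑ χ ∈ B0 M G, (χ : G → ℂ) u * conj ((χ : G → ℂ) w) =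
          (Nat.card K : ℂ)⁻¹ * ∑ y : K, ∑ χ : IrrCharacter G,
            (χ : G → ℂ) (u * ((y : C) : G)) * conj ((χ : G → ℂ) w) := by
        rw [Finset.sum_comm, Finset.mul_sum,
          Finset.sum_congr rfl (g := fun χ => A χ * conj ((χ : G → ℂ) w)) fun χ hχ => by
            rw [hAB χ (mem_B0.1 hχ)],
          Finset.sum_subset (Finset.subset_univ _) fun χ _ hχ => by
            rw [hAout χ fun hh => hχ (mem_B0.2 hh), zero_mul]]
        refine Finset.sum_congr rfl fun χ _ => ?_
        rw [← Finset.sum_mul, ← mul_assoc]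
      rw [hred, Finset.sum_eq_zero fun y _ => ?_, mul_zero]
      rw [CT.column_orthogonality, if_neg]
      intro hc
      obtain ⟨c, hc⟩ := isConj_iff.mp hc
      have h2 := ppart_conj (hpp y) c
      rw [hc] at h2
      exact h (isConj_iff.mpr ⟨c, ppart_unique h2 (isPPart_self hw)⟩)

end Cfsg.Agent.PairSolv
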