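import Cfsg.Agent.Lib.PairSolv.Basic

/-!
# Small tools for the pair criterion
-/

set_option autoImplicit false
set_option linter.all false

namespace Cfsg.Agent.PairSolv

open Cfsg Cfsg.Agent Cfsg.Agent.Blocks
open scoped ComplexConjugate

universe u

variable {G : Type u} [Group G] [Finite G] {p : ℕ} [hp : Fact p.Prime]

/-- A normal `p`-complement gives `p`-power index of the `p'`-core. -/
theorem index_core_of_complement {C : Type u} [Group C] [Finite C] (h : HasNormalPComplement p C) :
    ∃ k : ℕ, (pPrimeCore p C).index = p ^ k := by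
  obtain ⟨S, N, hN, hc⟩ := h
  haveI := hN
  obtain ⟨a, ha⟩ := IsPGroup.iff_card.mp S.isPGroup'
  have hidx : N.index = p ^ a := by rw [hc.symm.index_eq_card, ha]
  have hcop : (Nat.card N).Coprime p := by
    rw [← hc.index_eq_card]
    exact ((hp.out.coprime_iff_not_dvd.mpr S.not_dvd_index)).symm
  obtain ⟨k, -, hk⟩ := (Nat.dvd_prime_pow hp.out).mp
    (hidx ▸ Subgroup.index_dvd_of_le (Basics.le_pPrimeCore hcop) : (pPrimeCore p C).index ∣ p ^ a)
  exact ⟨k, hk⟩

/-- Transport along an isomorphism. -/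
theorem index_core_of_equiv {C D : Type u} [Group C] [Group D] [Finite C] [Finite D] (e : C ≃* D)
    (h : ∃ k : ℕ, (pPrimeCore p C).index = p ^ k) : ∃ k : ℕ, (pPrimeCore p D).index = p ^ k := by
  obtain ⟨a, ha⟩ := h
  haveI := Basics.pPrimeCore_normal (G := C) p
  set N := (pPrimeCore p C).map e.toMonoidHom
  haveI : N.Normal := Subgroup.Normal.map inferInstance _ e.surjective
  have hcop : (Nat.card N).Coprime p := by
    rw [Subgroup.card_map_of_injective e.injective]
    exact Basics.pPrimeCore_coprime p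
  have hidx : N.index = p ^ a := by
    rw [← ha]
    exact Subgroup.index_map_of_bijective e.bijective _
  obtain ⟨k, -, hk⟩ := (Nat.dvd_prime_pow hp.out).mp
    (hidx ▸ Subgroup.index_dvd_of_le (Basics.le_pPrimeCore hcop) : (pPrimeCore p D).index ∣ p ^ a)
  exact ⟨k, hk⟩

/-- Centralizers of conjugate elements. -/
noncomputable def centralizerConj (g x : G) :
    Subgroup.centralizer ({x} : Set G) ≃* Subgroup.centralizer ({g * x * g⁻¹} : Set G) where
  toFun c := ⟨g * c * g⁻¹, by
    refine Subgroup.mem_centralizer_singleton_iff.mpr ?_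
    have h := Subgroup.mem_centralizer_singleton_iff.mp c.2
    calc g * c * g⁻¹ * (g * x * g⁻¹) = g * ((c : G) * x) * g⁻¹ := by group
      _ = g * (x * c) * g⁻¹ := by rw [h]
      _ = _ := by group⟩
  invFun c := ⟨g⁻¹ * c * g, by
    refine Subgroup.mem_centralizer_singleton_iff.mpr ?_
    have h := Subgroup.mem_centralizer_singleton_iff.mp c.2
    calc g⁻¹ * c * g * x = g⁻¹ * ((c : G) * (g * x * g⁻¹)) * g := by group
      _ = g⁻¹ * ((g * x * g⁻¹) * c) * g := by rw [h]
      _ = _ := by group⟩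
  left_inv c := Subtype.ext (by group)
  right_inv c := Subtype.ext (by group)
  map_mul' a b := Subtype.ext (by simp only [Subgroup.coe_mul]; group)

theorem compl_conj (g x : G)
    (h : ∃ k : ℕ, (pPrimeCore p (Subgroup.centralizer ({x} : Set G))).index = p ^ k) :
    ∃ k : ℕ, (pPrimeCore p (Subgroup.centralizer ({g * x * g⁻¹} : Set G))).index = p ^ k :=
  index_core_of_equiv (centralizerConj g x) h

theorem index_centralizer_conj (g x : G) :
    (Subgroup.centralizer ({g * x * g⁻¹} : Set G)).index =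
      (Subgroup.centralizer ({x} : Set G)).index := by
  have h1 := (Subgroup.centralizer ({g * x * g⁻¹} : Set G)).index_mul_card
  rw [← Nat.card_congr (centralizerConj g x).toEquiv,
    ← (Subgroup.centralizer ({x} : Set G)).index_mul_card] at h1
  exact Nat.eq_of_mul_eq_mul_right Nat.card_pos h1

/-- A nontrivial character of a simple group is faithful. -/
theorem apply_ne_one_deg [Fintype G] [IsSimpleGroup G] {χ : IrrCharacter G} (hχ : χ ≠ CT.trivIrr G)
    {x : G} (hx : x ≠ 1) : (χ : G → ℂ) x ≠ (χ : G → ℂ) 1 := by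
  intro h
  have hc := CT.isCharacter_of_isIrr χ.2
  have hxk : x ∈ CT.kerChar (χ : G → ℂ) := (CT.mem_kerChar_iff hc).2 h
  have hn : (CT.kerChar (χ : G → ℂ)).Normal := ⟨fun a ha g => by
    rw [CT.mem_kerChar_iff hc] at ha ⊢
    rw [← CT.isClassFunction_isConj (CT.isClassFunction_of_isIrr χ.2)
      (isConj_iff.mpr ⟨g, rfl⟩ : IsConj a (g * a * g⁻¹)), ha]⟩
  rcases hn.eq_bot_or_eq_top with h0 | h0
  · rw [h0] at hxk
    exact hx (Subgroup.mem_bot.1 hxk)
  · have hall : ∀ g, (χ : G → ℂ) g = (χ : G → ℂ) 1 := fun g =>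
      (CT.mem_kerChar_iff hc).1 (h0 ▸ Subgroup.mem_top g)
    have h0' := CT.irr_inner_subtype χ (CT.trivIrr G)
    rw [if_neg hχ] at h0'
    apply CT.irr_one_ne_zero χ.2
    simp only [classInner, CT.trivIrr_apply, map_one, mul_one, hall, Finset.sum_const,
      Finset.card_univ, nsmul_eq_mul, Nat.card_eq_fintype_card] at h0'
    rcases mul_eq_zero.1 h0' with h1 | h1
    · exact absurd (inv_eq_zero.1 h1) (Nat.cast_ne_zero.2 Fintype.card_pos.ne')
    · exact (mul_eq_zero.1 h1).resolve_left (Nat.cast_ne_zero.2 Fintype.card_pos.ne')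

/-- A rational algebraic integer is an integer. -/
theorem exists_int_of_rat {z : ℂ} (h : IsIntegral ℤ z) {r : ℚ} (hr : z = (r : ℂ)) :
    ∃ n : ℤ, z = (n : ℂ) := by
  subst hr
  have h1 : IsIntegral ℤ r := (isIntegral_algHom_iff ((algebraMap ℚ ℂ).toIntAlgHom)
    (algebraMap ℚ ℂ).injective).mp (by simpa using h)
  obtain ⟨n, hn⟩ := IsIntegrallyClosed.isIntegral_iff.mp h1
  exact ⟨n, by rw [← hn]; simp⟩

end Cfsg.Agent.PairSolv
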